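import Cfsg.Agent.Lib.SpFourRes.Basic
import Cfsg.Agent.Lib.CIT.Basic
import Mathlib.FieldTheory.Perfect

/-!
Involution centralisers in residual subgroups of `Sp₄(F)`, `F` of characteristic two.

* `pow_four_eq_one` : an isometry commuting with an involution of type c2 has fourth power one
* `isCIT` : `AllCTwo P` makes `P` a CIT group
-/

set_option autoImplicit false

namespace Cfsg.Agent.SpFourRes.CTwo

open Matrix

variable {F : Type*} [Field F] [CharP F 2]

theorem sf_comm (x y : Vec F) : sf x y = sf y x := by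
  rw [show sf x y = -sf y x from isSymp.skew x y, CharTwo.neg_eq]

theorem add_self_vec (v : Vec F) : v + v = 0 := funext fun i => CharTwo.add_self_eq_zero (v i)

/-- An isometry commuting with an involution of type c2 has fourth power one. -/
theorem pow_four_eq_one [Finite F] {z g : GL (Fin 2 ⊕ Fin 2) F} (hz : z ∈ Cfsg.spGL 2 F)
    (hg : g ∈ Cfsg.spGL 2 F) (hz2 : z * z = 1) (hz1 : ∃ x : Vec F, sf (z.1 *ᵥ x) x ≠ 0)
    (hzt : ¬ ∃ u : Vec F, IsTvec z u) (hc : g * z = z * g) : g ^ 4 = 1 := by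
  classical
  have hzi : ∀ x y : Vec F, sf (z.1 *ᵥ x) (z.1 *ᵥ y) = sf x y := hz
  have hgi : ∀ x y : Vec F, sf (g.1 *ᵥ x) (g.1 *ᵥ y) = sf x y := hg
  have hB : Cfsg.Geo.IsBilinearForm (fun a b : Vec F => sf a b) := isSymp.bilinear
  have sadd : ∀ a b c : Vec F, sf (a + b) c = sf a c + sf b c := hB.add_left
  have radd : ∀ a b c : Vec F, sf c (a + b) = sf c a + sf c b := fun a b c => hB.add_right c a b
  have ssmul : ∀ (t : F) (a b : Vec F), sf (t • a) b = t * sf a b := hB.smul_left
  have rsmul : ∀ (t : F) (a b : Vec F), sf a (t • b) = t * sf a b := hB.smul_right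
  have s0 : ∀ a : Vec F, sf 0 a = 0 := fun a => by simpa using ssmul 0 0 a
  have r0 : ∀ a : Vec F, sf a 0 = 0 := fun a => by rw [sf_comm, s0]
  -- the map `n = z + 1`
  set n : Vec F →ₗ[F] Vec F := Matrix.mulVecLin (z.1 + 1) with hn
  have nap : ∀ x, n x = z.1 *ᵥ x + x := fun x => by
    rw [hn, Matrix.mulVecLin_apply, Matrix.add_mulVec, Matrix.one_mulVec]
  have hzz : ∀ x : Vec F, z.1 *ᵥ (z.1 *ᵥ x) = x := fun x => by
    rw [Matrix.mulVec_mulVec, ← Units.val_mul, hz2, Units.val_one, Matrix.one_mulVec]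
  have nn : ∀ x, n (n x) = 0 := fun x => by
    rw [nap, nap, Matrix.mulVec_add, hzz, add_comm x, add_self_vec]
  have nadj : ∀ x y, sf (n x) y = sf x (n y) := fun x y => by
    rw [nap, nap, sadd, radd]
    congr 1
    rw [← hzi, hzz]
  -- the image has dimension two
  have hle : LinearMap.range n ≤ LinearMap.ker n := by
    rintro _ ⟨y, rfl⟩
    exact nn y
  have hrank : 2 ≤ Module.finrank F (LinearMap.range n) := by
    by_contra hlt
    obtain ⟨v, hv⟩ := finrank_le_one_iff.1
      (by omega : Module.finrank F (LinearMap.range n) ≤ 1)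
    set u : Vec F := v.1 with hu
    have hc' : ∀ x, ∃ c : F, n x = c • u := fun x => by
      obtain ⟨c, hc⟩ := hv ⟨n x, x, rfl⟩
      exact ⟨c, (congrArg Subtype.val hc).symm⟩
    obtain ⟨x₁, hx₁⟩ := hz1
    have hx0 : n x₁ ≠ 0 := fun h => by
      apply hx₁
      have h' : z.1 *ᵥ x₁ = x₁ := by
        rw [nap] at h
        calc z.1 *ᵥ x₁ = z.1 *ᵥ x₁ + (x₁ + x₁) := by rw [add_self_vec, add_zero]
          _ = x₁ := by rw [← add_assoc, h, zero_add]
      rw [h']; exact isSymp.alternating x₁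
    obtain ⟨c₀, hc₀⟩ := hc' x₁
    have hu0 : u ≠ 0 := fun h => hx0 (by rw [hc₀, h, smul_zero])
    have hc0 : c₀ ≠ 0 := fun h => hx0 (by rw [hc₀, h, zero_smul])
    obtain ⟨-, y₀, hy₀⟩ := isSymp.nondegenerate u hu0
    have key : ∀ y c, n y = c • u → c₀ * sf u y = c * sf x₁ u := fun y c h => by
      rw [← ssmul, ← hc₀, nadj, h, rsmul]
    obtain ⟨cy, hcy⟩ := hc' y₀
    have hxu : sf x₁ u ≠ 0 := fun h => by
      have h' := key y₀ cy hcy
      rw [h, mul_zero] at h'
      exact mul_ne_zero hc0 hy₀ h'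
    obtain ⟨e, he⟩ := (frobeniusEquiv F 2).surjective (c₀ / sf x₁ u)
    rw [frobeniusEquiv_apply, frobenius_def] at he
    refine hzt ⟨e • u, fun x => ?_⟩
    obtain ⟨c, hcx⟩ := hc' x
    have hval : c = e ^ 2 * sf x u := by
      rw [he, div_mul_eq_mul_div, eq_div_iff hxu, ← key x c hcx, sf_comm u x]
    have hzx : z.1 *ᵥ x = x + n x := by
      rw [nap, add_comm (z.1 *ᵥ x) x, ← add_assoc, add_self_vec, zero_add]
    rw [hzx, hcx, hval, rsmul, smul_smul]
    congr 2
    ring
  have hV : Module.finrank F (Vec F) = 4 := by simp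
  have hsum := n.finrank_range_add_finrank_ker
  rw [hV] at hsum
  have hkr : LinearMap.range n = LinearMap.ker n := by
    apply Submodule.eq_of_le_of_finrank_le hle
    omega
  have hLfin : Module.finrank F (LinearMap.range n) = 2 := by
    have := Submodule.finrank_mono hle
    omega
  have inL : ∀ a, n a = 0 → ∃ y, n y = a := fun a ha => by
    have : a ∈ LinearMap.range n := by rw [hkr]; exact ha
    exact this
  -- the additive map `q x = f(n x, x)` and its square root
  have qadd : ∀ x y, sf (n (x + y)) (x + y) = sf (n x) x + sf (n y) y := fun x y => by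
    have h2 : sf (n y) x = sf (n x) y := by rw [nadj, sf_comm]
    rw [map_add, sadd, radd, radd, h2]
    linear_combination sf (n x) y * CharTwo.two_eq_zero (R := F)
  let l : Vec F →ₗ[F] F :=
    { toFun := fun x => (frobeniusEquiv F 2).symm (sf (n x) x)
      map_add' := fun x y => by rw [qadd, map_add]
      map_smul' := fun c x => by
        have h2 : (frobeniusEquiv F 2).symm (c ^ 2) = c :=
          (frobeniusEquiv F 2).injective (by
            rw [RingEquiv.apply_symm_apply, frobeniusEquiv_apply, frobenius_def])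
        rw [map_smul, ssmul, rsmul, RingHom.id_apply, smul_eq_mul, ← mul_assoc, ← sq, map_mul, h2] }
  have lz : ∀ x, l x = 0 ↔ sf (n x) x = 0 := fun x =>
    RingEquiv.map_eq_zero_iff (f := (frobeniusEquiv F 2).symm)
  have hl0 : l ≠ 0 := fun h => by
    obtain ⟨x₁, hx₁⟩ := hz1
    apply hx₁
    have h' : l x₁ = 0 := by rw [h]; rfl
    rw [lz, nap, sadd] at h'
    rwa [show sf x₁ x₁ = 0 from isSymp.alternating x₁, add_zero] at h'
  set H : Submodule F (Vec F) := LinearMap.ker l with hH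
  have hHfin : 3 ≤ Module.finrank F H := by
    have h1 := l.finrank_range_add_finrank_ker
    have h2 : Module.finrank F (LinearMap.range l) ≤ 1 := (Submodule.finrank_le _).trans (by simp)
    rw [hV] at h1
    rw [hH]
    omega
  have hLH : LinearMap.range n ≤ H := by
    rintro _ ⟨y, rfl⟩
    rw [hH, LinearMap.mem_ker, lz, nn, s0]
  obtain ⟨h, hhH, hhL⟩ := SetLike.exists_of_lt
    (lt_of_le_of_ne hLH (fun h => by rw [h] at hLfin; omega))
  have hsplit : LinearMap.range n ⊔ Submodule.span F {h} = H := by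
    refine Submodule.eq_of_le_of_finrank_le (sup_le hLH (Submodule.span_le.2 (by simpa using hhH))) ?_
    have hlt : LinearMap.range n < LinearMap.range n ⊔ Submodule.span F {h} :=
      lt_of_le_of_ne le_sup_left fun he => hhL (by
        rw [he]; exact Submodule.mem_sup_right (Submodule.mem_span_singleton_self h))
    have h1 := Submodule.finrank_lt_finrank_of_lt hlt
    have h4 : Module.finrank F H ≤ 3 := by
      have h5 := Submodule.finrank_lt (s := H) (fun ht => hl0 (LinearMap.ker_eq_top.1 ht))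
      omega
    omega
  have decomp : ∀ w ∈ H, ∃ y c, n y + c • h = w := fun w hw => by
    rw [← hsplit, Submodule.mem_sup] at hw
    obtain ⟨_, ⟨y, rfl⟩, b, hb, rfl⟩ := hw
    obtain ⟨c, rfl⟩ := Submodule.mem_span_singleton.1 hb
    exact ⟨y, c, rfl⟩
  have hqh : sf (n h) h = 0 := (lz h).1 hhH
  -- the action of `g`
  have gn : ∀ x, n (g.1 *ᵥ x) = g.1 *ᵥ n x := fun x => by
    rw [nap, nap, Matrix.mulVec_add, Matrix.mulVec_mulVec, Matrix.mulVec_mulVec, ← Units.val_mul,
      ← Units.val_mul, hc]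
  have gH : ∀ x, g.1 *ᵥ x + x ∈ H := fun x => by
    rw [hH, LinearMap.mem_ker, map_add]
    have : l (g.1 *ᵥ x) = l x := by
      show (frobeniusEquiv F 2).symm _ = (frobeniusEquiv F 2).symm _
      rw [gn, hgi]
    rw [this, CharTwo.add_self_eq_zero]
  obtain ⟨x, hx⟩ : ∃ x, l x ≠ 0 := by
    by_contra hne
    push Not at hne
    exact hl0 (LinearMap.ext hne)
  have hxh : sf (n x) h ≠ 0 := fun h0 => by
    have hall : ∀ y, sf (n h) y = 0 := fun y => by
      have hw : y + (l y / l x) • x ∈ H := by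
        rw [hH, LinearMap.mem_ker, map_add, map_smul, smul_eq_mul, div_mul_cancel₀ _ hx,
          CharTwo.add_self_eq_zero]
      obtain ⟨y', c, hy'⟩ := decomp _ hw
      have hy : y = (n y' + c • h) + (l y / l x) • x := by
        rw [hy', add_assoc, add_self_vec, add_zero]
      rw [hy, radd, radd, rsmul, rsmul, hqh, nadj h (n y'), nn, r0, nadj h x, sf_comm h (n x), h0]
      ring
    have hnh : n h = 0 := by
      by_contra hne
      obtain ⟨-, y, hy⟩ := isSymp.nondegenerate _ hne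
      exact hy (hall y)
    exact hhL (inL h hnh)
  obtain ⟨a, c, hac⟩ := decomp (g.1 *ᵥ h) (by
    have h3 : g.1 *ᵥ h = (g.1 *ᵥ h + h) + h := by rw [add_assoc, add_self_vec, add_zero]
    rw [h3]; exact add_mem (gH h) hhH)
  have hc1 : c = 1 := by
    have h1 : sf (n (g.1 *ᵥ x)) (g.1 *ᵥ h) = sf (n x) h := by rw [gn, hgi]
    obtain ⟨a', c', hac'⟩ := decomp _ (gH x)
    have hgx : g.1 *ᵥ x = (n a' + c' • h) + x := by
      rw [hac', add_assoc, add_self_vec, add_zero]
    rw [← hac, radd, rsmul, nadj (g.1 *ᵥ x) (n a), nn, r0, zero_add, hgx, map_add, map_add, nn,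
      zero_add, map_smul, sadd, ssmul, hqh, mul_zero, zero_add] at h1
    exact mul_right_cancel₀ hxh (h1.trans (one_mul _).symm)
  rw [hc1, one_smul] at hac
  set D : Vec F →ₗ[F] Vec F := Matrix.mulVecLin (g.1 + 1) with hD
  have dap : ∀ x, D x = g.1 *ᵥ x + x := fun x => by
    rw [hD, Matrix.mulVecLin_apply, Matrix.add_mulVec, Matrix.one_mulVec]
  have dn : ∀ x, D (n x) = n (D x) := fun x => by rw [dap, dap, map_add, gn]
  have DH : ∀ y, ∃ y', n y' = D (D y) := fun y => by
    obtain ⟨b, t, hbt⟩ := decomp (D y) (by rw [dap]; exact gH y)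
    refine ⟨D b + t • a, ?_⟩
    have hDh : D h = n a := by rw [dap, ← hac, add_assoc, add_self_vec, add_zero]
    rw [← hbt, map_add, map_add, map_smul, map_smul, hDh, dn]
  have four : ∀ y, g.1 *ᵥ (g.1 *ᵥ (g.1 *ᵥ (g.1 *ᵥ y))) = y := fun y => by
    obtain ⟨y', hy'⟩ := DH y
    obtain ⟨y'', hy''⟩ := DH y'
    have h0 : D (D (D (D y))) = 0 := by rw [← hy', dn, dn, ← hy'', nn]
    have h2 : ∀ w, D (D w) = g.1 *ᵥ (g.1 *ᵥ w) + w := fun w => by
      rw [dap, dap, Matrix.mulVec_add]
      rw [add_assoc, ← add_assoc (g.1 *ᵥ w), add_self_vec, zero_add]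
    rw [h2, h2, Matrix.mulVec_add, Matrix.mulVec_add, add_assoc,
      ← add_assoc (g.1 *ᵥ (g.1 *ᵥ y)) (g.1 *ᵥ (g.1 *ᵥ y)), add_self_vec, zero_add] at h0
    calc g.1 *ᵥ (g.1 *ᵥ (g.1 *ᵥ (g.1 *ᵥ y)))
        = g.1 *ᵥ (g.1 *ᵥ (g.1 *ᵥ (g.1 *ᵥ y))) + y + y := by rw [add_assoc, add_self_vec, add_zero]
      _ = y := by rw [h0, zero_add]
  apply Units.ext
  refine Matrix.ext_of_mulVec_single fun i => ?_
  rw [Units.val_pow_eq_pow_val, Units.val_one, Matrix.one_mulVec]
  simpa only [pow_succ, pow_zero, one_mul, ← Matrix.mulVec_mulVec] using four (Pi.single i 1)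

/-- Residual subgroups all of whose involutions are of type c2 are CIT groups. -/
theorem isCIT [Finite F] {P : Subgroup (GL (Fin 2 ⊕ Fin 2) F)} (C : Core P) (h : AllCTwo P) :
    CIT.IsCIT ↥P := by
  intro t ht g
  refine ⟨2, Subtype.ext (Subtype.ext ?_)⟩
  have ht2 : (t : GL (Fin 2 ⊕ Fin 2) F) * t = 1 := congrArg Subtype.val (Involution.mul_self ht)
  have ht1 : (t : GL (Fin 2 ⊕ Fin 2) F) ≠ 1 := fun h1 => by
    rw [OneMemClass.coe_eq_one] at h1
    rw [h1, orderOf_one] at ht
    exact absurd ht (by norm_num)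
  obtain ⟨hx, htv⟩ := h _ t.2 ht2 ht1
  exact pow_four_eq_one (C.le_sp t.2) (C.le_sp g.1.2) ht2 hx htv
    (congrArg Subtype.val (Subgroup.mem_centralizer_singleton_iff.1 g.2))

end Cfsg.Agent.SpFourRes.CTwo
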