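import Cfsg.Agent.Lib.SpFourRes.Basic
import Cfsg.Agent.Lib.Linear.Symplectic
import Mathlib.FieldTheory.IsAlgClosed.AlgebraicClosure
import Mathlib.LinearAlgebra.Matrix.ProjectiveSpecialLinearGroup
import Mathlib.LinearAlgebra.Matrix.Charpoly.Eigs

/-!
Groups of cross characteristic are no residual subgroups of `Sp₄(F)`, `F` of characteristic two.

* `false_of_powers` : no element of odd prime order of `Sp₄(F)` is conjugate to five powers of itself
* `not_psl_prime` : `PSL₂(p)`, `p ≥ 7`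
* `not_psl_three_four` : `PSL₃(4)`
-/

set_option autoImplicit false

namespace Cfsg.Agent.SpFourRes.CTwo

open Matrix Polynomial

variable {F : Type*} [Field F] [CharP F 2]

theorem charpoly_inv {g : GL (Fin 2 ⊕ Fin 2) F} (hg : g ∈ Cfsg.spGL 2 F) :
    (g⁻¹).1.charpoly = g.1.charpoly := by
  have hA : g.1 ∈ Matrix.symplecticGroup (Fin 2) F := Cfsg.Agent.Linear.mem_symplecticGroup_iff.2 hg
  have h1 := SymplecticGroup.mem_iff'.1 hA
  have hJ : Matrix.J (Fin 2) F * Matrix.J (Fin 2) F = 1 := by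
    rw [Matrix.J_squared]; exact CharTwo.neg_eq 1
  let U : (Matrix (Fin 2 ⊕ Fin 2) (Fin 2 ⊕ Fin 2) F)ˣ :=
    ⟨Matrix.J (Fin 2) F, Matrix.J (Fin 2) F, hJ, hJ⟩
  have h2 : g.1ᵀ = U.val * (g⁻¹).1 * U⁻¹.val := by
    show g.1ᵀ = Matrix.J (Fin 2) F * (g⁻¹).1 * Matrix.J (Fin 2) F
    calc g.1ᵀ = g.1ᵀ * Matrix.J (Fin 2) F * (g.1 * (g⁻¹).1) * Matrix.J (Fin 2) F := by
          rw [← Units.val_mul, mul_inv_cancel, Units.val_one, mul_one, mul_assoc, hJ, mul_one]
      _ = _ := by rw [← mul_assoc (g.1ᵀ * _) g.1, h1]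
  calc (g⁻¹).1.charpoly = (U.val * (g⁻¹).1 * U⁻¹.val).charpoly := by
        rw [Matrix.coe_units_inv U, Matrix.charpoly_units_conj]
    _ = g.1.charpoly := by rw [← h2, Matrix.charpoly_transpose]

/-- No element of odd prime order is conjugate, up to inversion, to five of its powers. -/
theorem false_of_powers {g : GL (Fin 2 ⊕ Fin 2) F} (hg : g ∈ Cfsg.spGL 2 F) {p : ℕ} (hp : p.Prime)
    (hp2 : p ≠ 2) (hgp : g ^ p = 1) (hg1 : g ≠ 1) {E : Finset ℕ} (hE : 5 ≤ E.card)
    (hlt : ∀ k ∈ E, k < p)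
    (hconj : ∀ k ∈ E, ∃ x : GL (Fin 2 ⊕ Fin 2) F, x * g * x⁻¹ = g ^ k ∨ x * g⁻¹ * x⁻¹ = g ^ k) :
    False := by
  classical
  set f := algebraMap F (AlgebraicClosure F) with hf
  haveI : CharP (AlgebraicClosure F) 2 := charP_of_injective_algebraMap f.injective 2
  set A := g.1.map f with hA
  have hdeg : A.charpoly.natDegree = 4 := by
    rw [Matrix.charpoly_natDegree_eq_dim]; rfl
  have hm : A.charpoly.Monic := Matrix.charpoly_monic A
  have hpow : ∀ n : ℕ, A ^ n = (g ^ n).1.map f := fun n => by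
    rw [Units.val_pow_eq_pow_val, hA]; exact (map_pow f.mapMatrix g.1 n).symm
  -- a root different from one
  obtain ⟨r, hr, hr1⟩ : ∃ r, A.charpoly.IsRoot r ∧ r ≠ 1 := by
    by_contra hcon
    push Not at hcon
    have hroots : A.charpoly.roots = Multiset.replicate 4 1 := by
      refine Multiset.eq_replicate.2 ⟨?_, fun b hb => hcon b (isRoot_of_mem_roots hb)⟩
      rw [← (IsAlgClosed.splits A.charpoly).natDegree_eq_card_roots, hdeg]
    have h4 : (A - 1) ^ 4 = 0 := by
      have h := Matrix.aeval_self_charpoly A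
      rw [(IsAlgClosed.splits A.charpoly).eq_prod_roots_of_monic hm, hroots, Multiset.map_replicate,
        Multiset.prod_replicate, map_pow, map_sub, aeval_X, aeval_C, map_one] at h
      exact h
    have h5 : A ^ 4 = 1 := by
      rw [show (4 : ℕ) = 2 ^ 2 from rfl, sub_pow_char_pow_of_commute (p := 2) (n := 2) (Commute.one_right A), one_pow,
        sub_eq_zero] at h4
      simpa using h4
    have h6 : g ^ 4 = 1 := by
      apply Units.ext
      apply Matrix.map_injective f.injective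
      show (g ^ 4).1.map f = (1 : Matrix _ _ F).map f
      rw [← hpow, h5, Matrix.map_one f f.map_zero f.map_one]
    have h7 := pow_gcd_eq_one.2 ⟨hgp, h6⟩
    have hcop : Nat.Coprime p 4 := by
      rw [show (4 : ℕ) = 2 ^ 2 from rfl]
      exact Nat.Coprime.pow_right 2 ((Nat.coprime_primes hp Nat.prime_two).2 hp2)
    rw [hcop, pow_one] at h7
    exact hg1 h7
  have hrs : r ∈ spectrum (AlgebraicClosure F) A := Matrix.mem_spectrum_iff_isRoot_charpoly.2 hr
  have hrp : r ^ p = 1 := by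
    have h := spectrum.pow_mem_pow (a := A) p hrs
    rw [hpow, hgp, Units.val_one, Matrix.map_one f f.map_zero f.map_one, spectrum.one_eq] at h
    exact h
  haveI := Fact.mk hp
  have hord : orderOf r = p := orderOf_eq_prime hrp hr1
  have hroot : ∀ k ∈ E, r ^ k ∈ A.charpoly.roots := fun k hk => by
    rw [mem_roots hm.ne_zero]
    have h := Matrix.mem_spectrum_iff_isRoot_charpoly.1 (spectrum.pow_mem_pow (a := A) k hrs)
    have hcp : (g ^ k).1.charpoly = g.1.charpoly := by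
      obtain ⟨x, hx | hx⟩ := hconj k hk
      · rw [← hx, Units.val_mul, Units.val_mul, Matrix.coe_units_inv, Matrix.charpoly_units_conj]
      · rw [← hx, Units.val_mul, Units.val_mul, Matrix.coe_units_inv x, Matrix.charpoly_units_conj,
          charpoly_inv hg]
    rwa [hpow, Matrix.charpoly_map, hcp, ← Matrix.charpoly_map] at h
  have hsub : E.image (fun k => r ^ k) ⊆ A.charpoly.roots.toFinset := by
    intro y hy
    obtain ⟨k, hk, rfl⟩ := Finset.mem_image.1 hy
    exact Multiset.mem_toFinset.2 (hroot k hk)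
  have h1 := Finset.card_le_card hsub
  rw [Finset.card_image_of_injOn (fun a ha b hb hab =>
    pow_injOn_Iio_orderOf (x := r) (hord ▸ hlt a ha) (hord ▸ hlt b hb) hab)] at h1
  have h2 := A.charpoly.roots.toFinset_card_le
  have h3 := Polynomial.card_roots' A.charpoly
  omega

theorem seven_squares : ∀ k ∈ (Finset.Icc 1 6 : Finset ℕ), ∃ s : ZMod 7, s ≠ 0 ∧
    ((k : ZMod 7) = s * s ∨ (k : ZMod 7) = -(s * s)) := by
  decide

/-- `PSL₂(p)`, `p ≥ 7`, is no residual group. -/
theorem not_psl_prime {P : Subgroup (GL (Fin 2 ⊕ Fin 2) F)} (C : Core P) {p : ℕ} [hp : Fact p.Prime]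
    (h7 : 7 ≤ p) : IsEmpty (Matrix.ProjectiveSpecialLinearGroup (Fin 2) (ZMod p) ≃* ↥P) := by
  classical
  refine ⟨fun e => ?_⟩
  let S := Matrix.SpecialLinearGroup (Fin 2) (ZMod p)
  let φ : S →* GL (Fin 2 ⊕ Fin 2) F :=
    P.subtype.comp (e.toMonoidHom.comp (QuotientGroup.mk' (Subgroup.center S)))
  have hφ : ∀ x : S, φ x = 1 → x ∈ Subgroup.center S := fun x hx => by
    rw [← QuotientGroup.eq_one_iff]
    exact e.injective ((Subtype.ext hx).trans (map_one e).symm)
  let t : S := ⟨!![1, 1; 0, 1], by simp [Matrix.det_fin_two]⟩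
  have htk : ∀ k : ℕ, ((t ^ k : S) : Matrix (Fin 2) (Fin 2) (ZMod p)) = !![1, (k : ZMod p); 0, 1] := by
    intro k
    induction k with
    | zero => simp [Matrix.one_fin_two]
    | succ k ih =>
      rw [pow_succ, Matrix.SpecialLinearGroup.coe_mul, ih]
      show !![1, (k : ZMod p); 0, 1] * !![1, 1; 0, 1] = _
      simp [add_comm]
  have htp : t ^ p = 1 := by
    apply Subtype.ext
    rw [htk]
    simp [Matrix.one_fin_two]
  have ht1 : φ t ≠ 1 := fun h => by
    let w : S := ⟨!![0, 1; -1, 0], by simp [Matrix.det_fin_two]⟩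
    have h' := congrArg Subtype.val (Subgroup.mem_center_iff.1 (hφ t h) w)
    have h'' : (!![0, 1; -1, 0] * !![1, 1; 0, 1] : Matrix (Fin 2) (Fin 2) (ZMod p)) 0 0 =
        (!![1, 1; 0, 1] * !![0, 1; -1, 0] : Matrix (Fin 2) (Fin 2) (ZMod p)) 0 0 :=
      congrFun (congrFun h' 0) 0
    simp at h''
  have hconj : ∀ k : ℕ, ∀ s : ZMod p, s ≠ 0 → ((k : ZMod p) = s * s ∨ (k : ZMod p) = -(s * s)) →
      ∃ x : GL (Fin 2 ⊕ Fin 2) F, x * φ t * x⁻¹ = φ t ^ k ∨ x * (φ t)⁻¹ * x⁻¹ = φ t ^ k := by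
    intro k s hs hk
    let d : S := ⟨!![s, 0; 0, s⁻¹], by simp [Matrix.det_fin_two, hs]⟩
    refine ⟨φ d, hk.imp (fun h => ?_) (fun h => ?_)⟩
    · rw [← map_pow, mul_inv_eq_iff_eq_mul, ← map_mul, ← map_mul]
      congr 1
      apply Subtype.ext
      rw [Matrix.SpecialLinearGroup.coe_mul, Matrix.SpecialLinearGroup.coe_mul, htk, h]
      show !![s, 0; 0, s⁻¹] * !![1, 1; 0, 1] = !![1, s * s; 0, 1] * !![s, 0; 0, s⁻¹]
      simp [hs]
    · rw [← map_pow, mul_inv_eq_iff_eq_mul, ← map_inv, ← map_mul, ← map_mul]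
      congr 1
      apply Subtype.ext
      rw [Matrix.SpecialLinearGroup.coe_mul, Matrix.SpecialLinearGroup.coe_mul,
        Matrix.SpecialLinearGroup.coe_inv, htk, h]
      show !![s, 0; 0, s⁻¹] * (!![1, 1; 0, 1]).adjugate = !![1, -(s * s); 0, 1] * !![s, 0; 0, s⁻¹]
      simp [Matrix.adjugate_fin_two, hs]
  have hg : φ t ∈ Cfsg.spGL 2 F := C.le_sp (e (QuotientGroup.mk' _ t)).2
  have hgp : φ t ^ p = 1 := by rw [← map_pow, htp, map_one]
  rcases eq_or_lt_of_le h7 with h | h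
  · subst h
    refine false_of_powers hg hp.out (by norm_num) hgp ht1 (E := Finset.Icc 1 6) (by simp) ?_ ?_
    · intro k hk
      rw [Finset.mem_Icc] at hk
      omega
    · intro k hk
      obtain ⟨s, hs, hks⟩ := seven_squares k hk
      exact hconj k s hs hks
  · have h11 : 11 ≤ p := by
      by_contra hlt
      have h8 : ∀ m : ℕ, m = p → ¬ m.Prime → False := fun m hm hnp => hnp (hm ▸ hp.out)
      rcases (by omega : 8 = p ∨ 9 = p ∨ 10 = p) with h' | h' | h' <;>
        exact h8 _ h' (by norm_num)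
    refine false_of_powers hg hp.out (by omega) hgp ht1
      (E := (Finset.Icc 1 5).image (fun s : ℕ => ((s : ZMod p) * s).val)) ?_ ?_ ?_
    · rw [Finset.card_image_of_injOn]
      · simp
      intro a ha b hb hab
      simp only [Finset.coe_Icc, Set.mem_Icc] at ha hb
      rcases mul_self_eq_mul_self_iff.1 (ZMod.val_injective p hab) with h' | h'
      · rwa [ZMod.natCast_eq_natCast_iff', Nat.mod_eq_of_lt (by omega), Nat.mod_eq_of_lt (by omega)] at h'
      · rw [eq_neg_iff_add_eq_zero, ← Nat.cast_add, ZMod.natCast_eq_zero_iff] at h'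
        exact absurd (Nat.le_of_dvd (by omega) h') (by omega)
    · intro k hk
      obtain ⟨s, -, rfl⟩ := Finset.mem_image.1 hk
      exact ZMod.val_lt _
    · intro k hk
      obtain ⟨s, hs, rfl⟩ := Finset.mem_image.1 hk
      rw [Finset.mem_Icc] at hs
      refine hconj _ (s : ZMod p) ?_ (Or.inl (ZMod.natCast_zmod_val _))
      rw [Ne, ZMod.natCast_eq_zero_iff]
      exact fun hd => absurd (Nat.le_of_dvd (by omega) hd) (by omega)

/-- `PSL₃(4)` is no residual group. -/
theorem not_psl_three_four {P : Subgroup (GL (Fin 2 ⊕ Fin 2) F)} (C : Core P) {K : Type*} [Field K]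
    [Fintype K] (hK : Fintype.card K = 4) :
    IsEmpty (Matrix.ProjectiveSpecialLinearGroup (Fin 3) K ≃* ↥P) := by
  classical
  refine ⟨fun e => ?_⟩
  haveI : CharP K 2 := charP_of_card_eq_prime_pow (f := 2) (by simpa [Nat.card_eq_fintype_card] using hK)
  let S := Matrix.SpecialLinearGroup (Fin 3) (ZMod 2)
  let i : S →* Matrix.SpecialLinearGroup (Fin 3) K :=
    Matrix.SpecialLinearGroup.map (ZMod.castHom (dvd_refl 2) K)
  have hi : Function.Injective i := fun a b hab => Subtype.ext (Matrix.map_injective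
    (ZMod.castHom (dvd_refl 2) K).injective (congrArg Subtype.val hab))
  let φ : S →* GL (Fin 2 ⊕ Fin 2) F :=
    P.subtype.comp (e.toMonoidHom.comp ((QuotientGroup.mk' _).comp i))
  let M : S := ⟨!![0, 0, 1; 1, 0, 1; 0, 1, 0], by decide⟩
  let x : S := ⟨!![0, 0, 1; 0, 1, 0; 1, 1, 1], by decide⟩
  let u : S := ⟨!![1, 1, 0; 0, 1, 0; 0, 0, 1], by decide⟩
  have hM1 : φ M ≠ 1 := fun h => by
    have hc : i M ∈ Subgroup.center (Matrix.SpecialLinearGroup (Fin 3) K) := by
      rw [← QuotientGroup.eq_one_iff]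
      exact e.injective ((Subtype.ext h).trans (map_one e).symm)
    have h' := hi (a₁ := u * M) (a₂ := M * u)
      (by rw [map_mul, map_mul]; exact Subgroup.mem_center_iff.1 hc (i u))
    revert h'
    decide
  have hM7 : φ M ^ 7 = 1 := by
    rw [← map_pow, show M ^ 7 = 1 by decide, map_one]
  have hxM : φ x * φ M * (φ x)⁻¹ = φ M ^ 2 := by
    rw [mul_inv_eq_iff_eq_mul, ← map_pow, ← map_mul, ← map_mul, show x * M = M ^ 2 * x by decide]
  have hg : φ M ∈ Cfsg.spGL 2 F := C.le_sp (e (QuotientGroup.mk' _ (i M))).2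
  refine false_of_powers hg (by norm_num : Nat.Prime 7) (by norm_num) hM7 hM1
    (E := Finset.Icc 1 6) (by simp) (fun k hk => by rw [Finset.mem_Icc] at hk; omega) ?_
  generalize φ M = a at hM7 hxM
  generalize φ x = y at hxM
  have hsq : y * y * a * (y * y)⁻¹ = a ^ 4 := by
    rw [show y * y * a * (y * y)⁻¹ = y * (y * a * y⁻¹) * y⁻¹ by group, hxM, conj_pow.symm, hxM,
      ← pow_mul]
  have hinv : ∀ j k : ℕ, j + k = 7 → (a ^ j)⁻¹ = a ^ k := fun j k hjk =>
    inv_eq_of_mul_eq_one_right (by rw [← pow_add, hjk, hM7])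
  intro k hk
  rw [Finset.mem_Icc] at hk
  rcases (by omega : k = 1 ∨ k = 2 ∨ k = 4 ∨ k = 6 ∨ k = 5 ∨ k = 3) with
    rfl | rfl | rfl | rfl | rfl | rfl
  · exact ⟨1, Or.inl (by simp)⟩
  · exact ⟨y, Or.inl hxM⟩
  · exact ⟨y * y, Or.inl hsq⟩
  · exact ⟨1, Or.inr (by rw [← hinv 1 6 rfl]; simp)⟩
  · exact ⟨y, Or.inr (by rw [← conj_inv, hxM, hinv 2 5 rfl])⟩
  · exact ⟨y * y, Or.inr (by rw [← conj_inv, hsq, hinv 4 3 rfl])⟩

end Cfsg.Agent.SpFourRes.CTwo
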