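/-
Representations of `SL₂(K)`, both characteristics two, in `Sp₄(F)` with involutions of type c2.
Main results:
* `Rep`, `act`, `nup` : the setting
* `Rep.ker_eq_range` : `n = u + 1` has rank two and square zero
* `invariant_of_gen`, `scalar_of_commute`, `sub_dichotomy`
-/
import Cfsg.Agent.Lib.SpFourRes.CTwo.Centraliser
import Cfsg.Agent.Lib.SL2Module.Mat

set_option autoImplicit false
set_option linter.unusedSectionVars false

namespace Cfsg.Agent.SpFourRes.CTwo

open Matrix Cfsg.Agent.SL2Module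

variable {F : Type*} [Field F] [CharP F 2] {K : Type*} [Field K] [CharP K 2]

theorem sf_addL (a b c : Vec F) : sf (a + b) c = sf a c + sf b c := isSymp.bilinear.add_left a b c

theorem sf_addR (a b c : Vec F) : sf a (b + c) = sf a b + sf a c := isSymp.bilinear.add_right a b c

theorem sf_smulL (t : F) (a b : Vec F) : sf (t • a) b = t * sf a b := isSymp.bilinear.smul_left t a b

theorem sf_smulR (t : F) (a b : Vec F) : sf a (t • b) = t * sf a b := isSymp.bilinear.smul_right t a b

theorem sf_self (a : Vec F) : sf a a = 0 := isSymp.alternating a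

theorem sf_zeroL (a : Vec F) : sf 0 a = 0 := by simpa using sf_smulL 0 0 a

theorem sf_zeroR (a : Vec F) : sf a 0 = 0 := by rw [sf_comm, sf_zeroL]

/-- The form as a bilinear map. -/
noncomputable def sfl (v : Vec F) : Vec F →ₗ[F] F := Transvect.flin isSymp.bilinear v

@[simp] theorem sfl_apply (v x : Vec F) : sfl v x = sf x v := rfl

theorem eq_zero_of_sf {a : Vec F} (h : ∀ y, sf a y = 0) : a = 0 := by
  by_contra hne
  obtain ⟨-, y, hy⟩ := isSymp.nondegenerate a hne
  exact hy (h y)

theorem eq_add_of_add {a b c : Vec F} (h : a + b = c) : a = c + b := by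
  rw [← h, add_assoc, add_self_vec, add_zero]

/-- A representation in the symplectic group with involutions of type c2. -/
structure Rep (ρ : Matrix.SpecialLinearGroup (Fin 2) K →* GL (Fin 2 ⊕ Fin 2) F) : Prop where
  sp : ∀ g, ρ g ∈ Cfsg.spGL 2 F
  ctwo : ∀ a : K, a ≠ 0 → (∃ x : Vec F, sf ((ρ (up a)).1 *ᵥ x) x ≠ 0) ∧ ¬ ∃ u : Vec F, IsTvec (ρ (up a)) u

variable (ρ : Matrix.SpecialLinearGroup (Fin 2) K →* GL (Fin 2 ⊕ Fin 2) F)

/-- The action. -/
noncomputable def act (g : Matrix.SpecialLinearGroup (Fin 2) K) : Vec F →ₗ[F] Vec F :=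
  Matrix.mulVecLin (ρ g).1

theorem act_apply (g : Matrix.SpecialLinearGroup (Fin 2) K) (x : Vec F) : act ρ g x = (ρ g).1 *ᵥ x := rfl

theorem act_mul (g h : Matrix.SpecialLinearGroup (Fin 2) K) (x : Vec F) :
    act ρ (g * h) x = act ρ g (act ρ h x) := by
  rw [act_apply, act_apply, act_apply, map_mul, Units.val_mul, Matrix.mulVec_mulVec]

theorem act_one (x : Vec F) : act ρ 1 x = x := by
  rw [act_apply, map_one, Units.val_one, Matrix.one_mulVec]

theorem act_wm_wm (x : Vec F) : act ρ wm (act ρ wm x) = x := by rw [← act_mul, wm_sq, act_one]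

/-- `u_a + 1`. -/
noncomputable def nup (a : K) : Vec F →ₗ[F] Vec F := act ρ (up a) + LinearMap.id

theorem nup_apply (a : K) (x : Vec F) : nup ρ a x = act ρ (up a) x + x := rfl

theorem act_up (a : K) (x : Vec F) : act ρ (up a) x = x + nup ρ a x := by
  rw [nup_apply, add_comm x, add_assoc, add_self_vec, add_zero]

theorem nup_add (a b : K) (x : Vec F) :
    nup ρ (a + b) x = nup ρ a x + nup ρ b x + nup ρ a (nup ρ b x) := by
  rw [nup_apply, ← up_mul, act_mul, act_up ρ b, act_up ρ a, map_add]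
  have h : x + x = 0 := add_self_vec x
  calc x + nup ρ b x + (nup ρ a x + nup ρ a (nup ρ b x)) + x
      = (x + x) + (nup ρ a x + nup ρ b x + nup ρ a (nup ρ b x)) := by abel
    _ = _ := by rw [h, zero_add]

theorem nup_nup_self (a : K) (x : Vec F) : nup ρ a (nup ρ a x) = 0 := by
  rw [nup_apply, nup_apply, map_add, ← act_mul, up_sq, act_one]
  rw [add_comm x (act ρ (up a) x), add_self_vec]

theorem nup_comm (a b : K) (x : Vec F) : nup ρ a (nup ρ b x) = nup ρ b (nup ρ a x) := by
  have h1 := nup_add ρ a b x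
  have h2 := nup_add ρ b a x
  rw [add_comm b a, h1, add_comm (nup ρ b x) (nup ρ a x)] at h2
  exact add_left_cancel h2

variable {ρ}

theorem Rep.sf_act (R : Rep ρ) (g : Matrix.SpecialLinearGroup (Fin 2) K) (x y : Vec F) :
    sf (act ρ g x) (act ρ g y) = sf x y := R.sp g x y

theorem Rep.sf_nup (R : Rep ρ) (a : K) (x y : Vec F) : sf (nup ρ a x) y = sf x (nup ρ a y) := by
  rw [nup_apply, nup_apply, sf_addL, sf_addR]
  congr 1
  rw [← R.sf_act (up a) (act ρ (up a) x), ← act_mul, up_sq, act_one]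

variable [Finite F]

/-- An involution of type c2 has `im (z + 1) = ker (z + 1)` of dimension two. -/
theorem Rep.ker_eq_range (R : Rep ρ) {a : K} (ha : a ≠ 0) :
    LinearMap.range (nup ρ a) = LinearMap.ker (nup ρ a) ∧
      Module.finrank F (LinearMap.range (nup ρ a)) = 2 := by
  classical
  obtain ⟨hz1, hzt⟩ := R.ctwo a ha
  set n := nup ρ a with hn
  have hle : LinearMap.range n ≤ LinearMap.ker n := by
    rintro _ ⟨y, rfl⟩
    exact nup_nup_self ρ a y
  have hrank : 2 ≤ Module.finrank F (LinearMap.range n) := by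
    by_contra hlt
    obtain ⟨v, hv⟩ := finrank_le_one_iff.1
      (by omega : Module.finrank F (LinearMap.range n) ≤ 1)
    set u : Vec F := v.1 with hu
    have hc' : ∀ x, ∃ c : F, n x = c • u := fun x => by
      obtain ⟨c, hc⟩ := hv ⟨n x, x, rfl⟩
      exact ⟨c, (congrArg Subtype.val hc).symm⟩
    obtain ⟨x₁, hx₁⟩ := hz1
    have hx0 : n x₁ ≠ 0 := fun h => by
      apply hx₁
      rw [← act_apply, act_up, ← hn, h, add_zero]
      exact sf_self x₁
    obtain ⟨c₀, hc₀⟩ := hc' x₁
    have hu0 : u ≠ 0 := fun h => hx0 (by rw [hc₀, h, smul_zero])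
    have hc0 : c₀ ≠ 0 := fun h => hx0 (by rw [hc₀, h, zero_smul])
    obtain ⟨-, y₀, hy₀⟩ := isSymp.nondegenerate u hu0
    have key : ∀ y c, n y = c • u → c₀ * sf u y = c * sf x₁ u := fun y c h => by
      rw [← sf_smulL, ← hc₀, hn, R.sf_nup, ← hn, h, sf_smulR]
    obtain ⟨cy, hcy⟩ := hc' y₀
    have hxu : sf x₁ u ≠ 0 := fun h => by
      have h' := key y₀ cy hcy
      rw [h, mul_zero] at h'
      exact mul_ne_zero hc0 hy₀ h'
    obtain ⟨e, he⟩ := (frobeniusEquiv F 2).surjective (c₀ / sf x₁ u)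
    rw [frobeniusEquiv_apply, frobenius_def] at he
    refine hzt ⟨e • u, fun x => ?_⟩
    obtain ⟨c, hcx⟩ := hc' x
    have hval : c = e ^ 2 * sf x u := by
      rw [he, div_mul_eq_mul_div, eq_div_iff hxu, ← key x c hcx, sf_comm u x]
    rw [← act_apply, act_up, ← hn, hcx, hval, sf_smulR, smul_smul]
    congr 2
    ring
  have hV : Module.finrank F (Vec F) = 4 := by simp
  have hsum := n.finrank_range_add_finrank_ker
  rw [hV] at hsum
  have := Submodule.finrank_mono hle
  exact ⟨Submodule.eq_of_le_of_finrank_le hle (by omega), by omega⟩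

variable (ρ)

omit [Finite F] in
/-- A subspace invariant under the generators is invariant. -/
theorem invariant_of_gen (W : Submodule F (Vec F)) (hu : ∀ a, ∀ x ∈ W, act ρ (up a) x ∈ W)
    (hw : ∀ x ∈ W, act ρ wm x ∈ W) (g : Matrix.SpecialLinearGroup (Fin 2) K) :
    ∀ x ∈ W, act ρ g x ∈ W := by
  have hg : g ∈ Subgroup.closure (Set.range (up : K → _) ∪ {wm}) := closure_eq_top.ge (Subgroup.mem_top g)
  induction hg using Subgroup.closure_induction'' with
  | mem t ht =>
    rcases ht with ⟨a, rfl⟩ | rfl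
    · exact hu a
    · exact hw
  | inv_mem t ht =>
    rcases ht with ⟨a, rfl⟩ | rfl
    · rw [inv_eq_of_mul_eq_one_right (up_sq a)]; exact hu a
    · rw [inv_eq_of_mul_eq_one_right (wm_sq (K := K))]; exact hw
  | one => intro x hx; rwa [act_one]
  | mul a b _ _ ha hb => intro x hx; rw [act_mul]; exact ha _ (hb x hx)

omit [Finite F] in
/-- Commuting with the generators is commuting with everything. -/
theorem commute_of_gen (Φ : Vec F →ₗ[F] Vec F) (hu : ∀ a x, Φ (act ρ (up a) x) = act ρ (up a) (Φ x))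
    (hw : ∀ x, Φ (act ρ wm x) = act ρ wm (Φ x)) (g : Matrix.SpecialLinearGroup (Fin 2) K) :
    ∀ x, Φ (act ρ g x) = act ρ g (Φ x) := by
  have hg : g ∈ Subgroup.closure (Set.range (up : K → _) ∪ {wm}) := closure_eq_top.ge (Subgroup.mem_top g)
  induction hg using Subgroup.closure_induction'' with
  | mem t ht =>
    rcases ht with ⟨a, rfl⟩ | rfl
    · exact hu a
    · exact hw
  | inv_mem t ht =>
    rcases ht with ⟨a, rfl⟩ | rfl
    · rw [inv_eq_of_mul_eq_one_right (up_sq a)]; exact hu a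
    · rw [inv_eq_of_mul_eq_one_right (wm_sq (K := K))]; exact hw
  | one => intro x; simp only [act_one]
  | mul a b _ _ ha hb => intro x; rw [act_mul, act_mul, ha, hb]

/-- No proper invariant subspace. -/
def Irr : Prop := ∀ W : Submodule F (Vec F), (∀ g, ∀ x ∈ W, act ρ g x ∈ W) → W = ⊥ ∨ W = ⊤

/-- Only scalars commute. -/
def Scal : Prop := ∀ Φ : Vec F →ₗ[F] Vec F, (∀ g x, Φ (act ρ g x) = act ρ g (Φ x)) →
  ∃ c : F, ∀ x, Φ x = c • x

variable {ρ}

omit [Finite F] in
/-- An invariant subspace of dimension at most two is zero. -/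
theorem Irr.eq_bot (hI : Irr ρ) {W : Submodule F (Vec F)} (hu : ∀ a, ∀ x ∈ W, act ρ (up a) x ∈ W)
    (hw : ∀ x ∈ W, act ρ wm x ∈ W) (hd : Module.finrank F W ≤ 2) : W = ⊥ := by
  rcases hI W (invariant_of_gen ρ W hu hw) with h | h
  · exact h
  · rw [h, finrank_top] at hd
    simp at hd

end Cfsg.Agent.SpFourRes.CTwo
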