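/-
The root group acts quadratically: impossible for an absolutely irreducible representation.
Main results: `Rep.not_quadratic`.
-/
import Cfsg.Agent.Lib.SpFourRes.CTwo.Setup

set_option autoImplicit false
set_option linter.unusedSectionVars false

namespace Cfsg.Agent.SpFourRes.CTwo

open Matrix Cfsg.Agent.SL2Module

variable {F : Type*} [Field F] [CharP F 2] [Finite F] {K : Type*} [Field K] [CharP K 2]
  {ρ : Matrix.SpecialLinearGroup (Fin 2) K →* GL (Fin 2 ⊕ Fin 2) F}

set_option maxHeartbeats 800000 in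
/-- **The quadratic case.** -/
theorem Rep.not_quadratic (R : Rep ρ) (hI : Irr ρ) (hS : Scal ρ)
    (hq : ∀ a b x, nup ρ a (nup ρ b x) = 0) : False := by
  classical
  set L := LinearMap.range (nup ρ 1) with hLdef
  obtain ⟨hker1, hdim⟩ := R.ker_eq_range (one_ne_zero (α := K))
  have hLk : ∀ (a : K) (x : Vec F), x ∈ L → nup ρ a x = 0 := by
    rintro a _ ⟨y, rfl⟩
    exact hq a 1 y
  have hrange : ∀ (a : K) (x : Vec F), nup ρ a x ∈ L := fun a x => by
    rw [hLdef, hker1]
    exact hq 1 a x
  have huL : ∀ a, ∀ x ∈ L, act ρ (up a) x = x := fun a x hx => by rw [act_up, hLk a x hx, add_zero]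
  have hadd : ∀ a b x, nup ρ (a + b) x = nup ρ a x + nup ρ b x := fun a b x => by
    rw [nup_add, hq, add_zero]
  -- `L` and its image are complementary
  set w : Vec F →ₗ[F] Vec F := act ρ wm with hw
  have hww : ∀ x, w (w x) = x := act_wm_wm ρ
  have hint : ∀ x ∈ L, w x ∈ L → x = 0 := by
    have h : L ⊓ L.comap w = ⊥ := by
      refine hI.eq_bot (fun a x hx => ?_) (fun x hx => ?_) ((Submodule.finrank_mono inf_le_left).trans hdim.le)
      · rw [huL a x hx.1]; exact hx
      · exact ⟨hx.2, by show w (w x) ∈ L; rw [hww]; exact hx.1⟩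
    intro x hx hwx
    exact (Submodule.mem_bot F).1 (h ▸ ⟨hx, hwx⟩)
  let E : L × L →ₗ[F] Vec F := L.subtype.coprod (w.comp L.subtype)
  have hE : ∀ p : L × L, E p = (p.1 : Vec F) + w p.2 := fun p => rfl
  have hEinj : Function.Injective E := by
    rw [← LinearMap.ker_eq_bot, LinearMap.ker_eq_bot']
    rintro ⟨⟨x, hx⟩, ⟨y, hy⟩⟩ h
    rw [hE] at h
    have hxy : x = w y := by simpa using eq_add_of_add h
    have hy0 : y = 0 := hint y hy (hxy ▸ hx)
    have hx0 : x = 0 := by rw [hxy, hy0, map_zero]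
    simp [hx0, hy0]
  have hEsurj : Function.Surjective E := (LinearMap.injective_iff_surjective_of_finrank_eq_finrank (by
    rw [Module.finrank_prod, show Module.finrank F L = 2 from hdim]; simp)).1 hEinj
  -- the matrices `S a`
  let S : K → (L →ₗ[F] L) := fun a =>
    ((nup ρ a).comp (w.comp L.subtype)).codRestrict L fun x => hrange a _
  have hSval : ∀ a (l : L), ((S a l : L) : Vec F) = nup ρ a (w l) := fun a l => rfl
  have hX : ∀ a (p : L × L), act ρ (up a) (w (E p)) = E (p.2 + S a p.1, p.1) := fun a p => by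
    rw [hE, hE, map_add, map_add, hww, huL a _ p.2.2, act_up, Submodule.coe_add, hSval]
    abel
  have hcoord : ∀ {p q : L × L}, E p = E q → p = q := fun h => hEinj h
  have hdgL : ∀ (u : Kˣ), ∀ x ∈ L, act ρ (dg u) x ∈ L := by
    intro u x hx
    rw [hLdef, hker1, LinearMap.mem_ker, nup_apply]
    have e : up (1 : K) * dg u = dg u * up (((u⁻¹ : Kˣ) : K) * ((u⁻¹ : Kˣ) : K)) := by
      rw [dg_up]
      congr 2
      rw [← mul_assoc, mul_assoc (u : K) (u : K), Units.mul_inv, mul_one, Units.mul_inv]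
    rw [← act_mul, e, act_mul, huL _ x hx, add_self_vec]
  -- inverses and the torus
  have hdg : ∀ (u : Kˣ) (l : L), S ((u⁻¹ : Kˣ) : K) (S (u : K) l) = l ∧ act ρ (dg u) l = S (u : K) l := by
    intro u l
    have e : dg u = up (u : K) * wm * (up ((u⁻¹ : Kˣ) : K) * wm) * (up (u : K) * wm) := by
      have h := up_lo_up u
      rw [← wm_conj_up] at h
      calc dg u = dg u * wm * wm := by rw [mul_assoc, wm_sq, mul_one]
        _ = _ := by rw [← h]; simp [mul_assoc]
    have e1 : (l : Vec F) = E (l, 0) := by rw [hE]; simp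
    have e2 : act ρ (dg u) l = E (S (u : K) l + S (u : K) (l + S ((u⁻¹ : Kˣ) : K) (S (u : K) l)),
        l + S ((u⁻¹ : Kˣ) : K) (S (u : K) l)) := by
      rw [e, act_mul, act_mul, act_mul ρ (up (u : K)) wm, act_mul ρ (up ((u⁻¹ : Kˣ) : K)) wm,
        act_mul ρ (up (u : K)) wm]
      rw [e1, hX, hX, hX, zero_add]
    obtain ⟨m, hm⟩ : ∃ m : L, act ρ (dg u) l = E (m, 0) :=
      ⟨⟨_, hdgL u l l.2⟩, by rw [hE]; simp⟩
    rw [hm] at e2
    obtain ⟨h1, h2⟩ := Prod.mk.inj (hcoord e2)
    have hL2 : ∀ x y : L, x + y = 0 → y = x := fun x y h => by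
      refine Subtype.ext ?_
      have h' : (x : Vec F) + y = 0 := by rw [← Submodule.coe_add, h, Submodule.coe_zero]
      rw [eq_add_of_add h', zero_add]
    refine ⟨hL2 _ _ h2.symm, ?_⟩
    rw [hm, hE, h1, ← h2, map_zero, add_zero]
    simp
  have hdg' : ∀ (u : Kˣ) (l : L), act ρ (dg u) (w l) = w (S ((u⁻¹ : Kˣ) : K) l) := fun u l => by
    rw [← (hdg u⁻¹ l).2, hw, ← act_mul, ← act_mul, wm_dg, inv_inv]
  -- `S` commutes with itself
  have hsq : ∀ (u : Kˣ) (c : K) (m : L),
      S (((u : K) * u) * c) m = S (u : K) (S c (S (u : K) m)) := by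
    intro u c m
    have h := congrArg (fun g => act ρ g (w ((S (u : K) m : L) : Vec F))) (dg_up u c)
    simp only [act_mul, act_up, map_add] at h
    rw [hdg', ← hSval, (hdg u _).2, (hdg u _).1, ← hSval] at h
    exact Subtype.ext (add_left_cancel h).symm
  have hSadd : ∀ a b (l : L), S (a + b) l = S a l + S b l := fun a b l => Subtype.ext (hadd a b _)
  have hS0 : ∀ l : L, S 0 l = 0 := fun l => Subtype.ext (by
    rw [hSval, nup_apply, up_zero, act_one, add_self_vec, Submodule.coe_zero])
  have hS1 : ∀ l : L, S 1 l = l := by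
    have hc : (up (1 : K) * wm) * (up 1 * wm) * (up 1 * wm) = 1 := by
      refine Subtype.ext ?_
      simp [up_val, wm_val, Matrix.mul_fin_two, Matrix.one_fin_two, CharTwo.add_self_eq_zero,
        Matrix.SpecialLinearGroup.coe_mul, Matrix.SpecialLinearGroup.coe_one]
    intro l
    have h := congrArg (fun g => act ρ g (E (l, 0))) hc
    simp only [act_mul, act_one] at h
    rw [hX, hX, hX, zero_add] at h
    obtain ⟨h1, h2⟩ := Prod.mk.inj (hcoord h)
    rw [h2, map_zero, add_zero] at h1
    exact h1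
  have hsq' : ∀ (a c : K) (m : L), S (a * a * c) m = S a (S c (S a m)) := by
    intro a c m
    by_cases ha : a = 0
    · simp only [ha, zero_mul, hS0]
    · exact hsq (Units.mk0 a ha) c m
  have hcomm : ∀ a c (m : L), S a (S c m) = S c (S a m) := by
    intro a c m
    have h := hsq' (a + 1) c m
    have e : (a + 1) * (a + 1) * c = a * a * c + c := by
      linear_combination a * c * CharTwo.two_eq_zero (R := K)
    rw [e, hSadd, hsq', hSadd a 1 m, map_add, hSadd, hS1, hS1, map_add] at h
    have h' := congrArg (fun x : L => (x : Vec F)) h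
    simp only [Submodule.coe_add] at h'
    have h0 : ((S a (S c m) : L) : Vec F) + ((S c (S a m) : L) : Vec F) = 0 := by
      rw [← sub_eq_zero.2 h'.symm]
      abel
    exact Subtype.ext (by rw [eq_add_of_add h0, zero_add])
  -- `S a` is scalar
  let Ee := LinearEquiv.ofBijective E ⟨hEinj, hEsurj⟩
  have hEe : ∀ p, Ee p = E p := fun p => rfl
  have hscal : ∀ a, ∃ c : F, ∀ l : L, S a l = c • l := by
    intro a
    let Φ : Vec F →ₗ[F] Vec F := E.comp (((S a).prodMap (S a)).comp Ee.symm.toLinearMap)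
    have hΦ : ∀ p, Φ (E p) = E (S a p.1, S a p.2) := fun p => by
      show E ((S a).prodMap (S a) (Ee.symm (E p))) = _
      rw [← hEe p, LinearEquiv.symm_apply_apply]
      rfl
    have hwE : ∀ p : L × L, w (E p) = E (p.2, p.1) := fun p => by
      rw [hE, hE, map_add, hww, add_comm]
    obtain ⟨c, hc⟩ := hS Φ (commute_of_gen ρ Φ (fun b x => by
      obtain ⟨p, rfl⟩ := hEsurj x
      have e : act ρ (up b) (E p) = E (p.1 + S b p.2, p.2) := by
        have h1 := hX b (p.2, p.1)
        rwa [hwE] at h1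
      rw [e, hΦ, hΦ, map_add, hcomm a b]
      exact (by
        have h1 := hX b (S a p.2, S a p.1)
        rw [hwE] at h1
        exact h1.symm)) fun x => by
      obtain ⟨p, rfl⟩ := hEsurj x
      rw [← hw, hwE, hΦ, hΦ, hwE])
    refine ⟨c, fun l => ?_⟩
    have h1 := hc (E (l, 0))
    rw [hΦ, ← map_smul, map_zero] at h1
    exact (Prod.mk.inj (hcoord h1)).1
  -- an invariant plane
  obtain ⟨l, hl, hl0⟩ := Submodule.exists_mem_ne_zero_of_ne_bot (show L ≠ ⊥ from fun h => by
    rw [← hLdef, h, finrank_bot] at hdim; omega)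
  have hWb : Submodule.span F ({l, w l} : Set (Vec F)) = ⊥ := by
    refine hI.eq_bot (fun a x hx => ?_) (fun x hx => ?_) ?_
    · obtain ⟨r, t, rfl⟩ := Submodule.mem_span_pair.1 hx
      obtain ⟨c, hc⟩ := hscal a
      have h1 : nup ρ a (w l) = c • l := by
        have h2 := congrArg (fun y : L => (y : Vec F)) (hc ⟨l, hl⟩)
        exact h2
      refine Submodule.mem_span_pair.2 ⟨r + t * c, t, ?_⟩
      rw [map_add, map_smul, map_smul, huL a l hl, act_up, h1]
      module
    · obtain ⟨r, t, rfl⟩ := Submodule.mem_span_pair.1 hx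
      refine Submodule.mem_span_pair.2 ⟨t, r, ?_⟩
      rw [map_add, map_smul, map_smul, ← hw, hww, add_comm]
    · have h1 := finrank_span_finset_le_card (R := F) ({l, w l} : Finset (Vec F))
      rw [Set.finrank, Finset.coe_insert, Finset.coe_singleton] at h1
      exact h1.trans Finset.card_le_two
  exact hl0 ((Submodule.mem_bot F).1 (hWb ▸ Submodule.subset_span (by simp)))

end Cfsg.Agent.SpFourRes.CTwo
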