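/-
`SL₂` of even characteristic is no residual group of `Sp₄` with involutions of type c2.

Main results:
* `Rep.exists_quad` : a non-quadratic representation fixes a quadratic map with polar `f`
* `not_psl_even`
-/
import Cfsg.Agent.Lib.SpFourRes.CTwo.Quadratic
import Mathlib.RingTheory.IntegralDomain

set_option autoImplicit false
set_option linter.unusedSectionVars false

namespace Cfsg.Agent.SpFourRes.CTwo

open Matrix Cfsg.Agent.SL2Module

variable {F : Type*} [Field F] [CharP F 2] [Finite F] {K : Type*} [Field K] [CharP K 2]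
  {ρ : Matrix.SpecialLinearGroup (Fin 2) K →* GL (Fin 2 ⊕ Fin 2) F}

/-- A function invariant under the generators is invariant. -/
theorem act_invariant_of_gen (Q : Vec F → F) (hu : ∀ a x, Q (act ρ (up a) x) = Q x)
    (hw : ∀ x, Q (act ρ wm x) = Q x) (g : Matrix.SpecialLinearGroup (Fin 2) K) :
    ∀ x, Q (act ρ g x) = Q x := by
  have hg : g ∈ Subgroup.closure (Set.range (up : K → _) ∪ {wm}) := closure_eq_top.ge (Subgroup.mem_top g)
  induction hg using Subgroup.closure_induction'' with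
  | mem t ht =>
    rcases ht with ⟨a, rfl⟩ | rfl
    · exact hu a
    · exact hw
  | inv_mem t ht =>
    rcases ht with ⟨a, rfl⟩ | rfl
    · rw [inv_eq_of_mul_eq_one_right (up_sq a)]; exact hu a
    · rw [inv_eq_of_mul_eq_one_right (wm_sq (K := K))]; exact hw
  | one => intro x; rw [act_one]
  | mul a b _ _ ha hb => intro x; rw [act_mul, ha, hb]

/-- A square-zero map of a plane with a fixed vector maps into the line of that vector. -/
theorem nilp_line {L : Submodule F (Vec F)} (hL : Module.finrank F L ≤ 2) {n : Vec F →ₗ[F] Vec F}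
    (hnL : ∀ x ∈ L, n x ∈ L) (hn : ∀ x, n (n x) = 0) {v : Vec F} (hv : v ∈ L) (hv0 : v ≠ 0)
    (hnv : n v = 0) {p : Vec F} (hp : p ∈ L) : ∃ s : F, n p = s • v := by
  classical
  by_cases hps : ∃ r : F, r • v = p
  · obtain ⟨r, rfl⟩ := hps
    exact ⟨0, by rw [map_smul, hnv, smul_zero, zero_smul]⟩
  push Not at hps
  have hind : LinearIndependent F ![v, p] := (LinearIndependent.pair_iff' hv0).2 hps
  have hle : Submodule.span F (Set.range ![v, p]) ≤ L := by
    rw [Submodule.span_le]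
    rintro _ ⟨i, rfl⟩
    fin_cases i
    · exact hv
    · exact hp
  have heq : Submodule.span F (Set.range ![v, p]) = L := Submodule.eq_of_le_of_finrank_le hle (by
    rw [finrank_span_eq_card hind]; simpa using hL)
  have hmem := hnL p hp
  rw [← heq, Matrix.range_cons, Matrix.range_cons, Matrix.range_empty, Set.union_empty,
    Set.singleton_union, Submodule.mem_span_pair] at hmem
  obtain ⟨α, β, h⟩ := hmem
  by_cases hb : β = 0
  · exact ⟨α, by rw [← h, hb, zero_smul, add_zero]⟩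
  · have h' := congrArg n h
    rw [map_add, map_smul, map_smul, hnv, smul_zero, zero_add, hn, smul_eq_zero] at h'
    exact ⟨0, by rw [h'.resolve_left hb, zero_smul]⟩

/-- The line fixed by the root group in the non-quadratic case. -/
theorem Rep.exists_fixed_line (R : Rep ρ) {a b : K} {z : Vec F} (h : nup ρ a (nup ρ b z) ≠ 0) :
    ∃ v : Vec F, v ≠ 0 ∧ (∀ c, nup ρ c v = 0) ∧
      (∀ c x, sf x v = 0 → ∃ s : F, nup ρ c x = s • v) ∧
      (∀ x, (∀ c, nup ρ c x = 0) → ∃ s : F, x = s • v) := by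
  classical
  have h0 : ∀ c, c = 0 → ∀ x, nup ρ c x = 0 := by
    rintro c rfl x
    rw [nup_apply, up_zero, act_one, add_self_vec]
  have ha : a ≠ 0 := fun e => h (h0 a e _)
  have hb : b ≠ 0 := fun e => h (by rw [h0 b e, map_zero])
  obtain ⟨hka, hda⟩ := R.ker_eq_range ha
  obtain ⟨hkb, hdb⟩ := R.ker_eq_range hb
  set La := LinearMap.range (nup ρ a) with hLa
  set Lb := LinearMap.range (nup ρ b) with hLb
  set v := nup ρ a (nup ρ b z) with hv
  have hmema : ∀ x, x ∈ La ↔ nup ρ a x = 0 := fun x => by rw [hka, LinearMap.mem_ker]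
  have hmemb : ∀ x, x ∈ Lb ↔ nup ρ b x = 0 := fun x => by rw [hkb, LinearMap.mem_ker]
  have hva : v ∈ La := ⟨_, rfl⟩
  have hvb : v ∈ Lb := ⟨nup ρ a z, nup_comm ρ b a z⟩
  have hne : La ≠ Lb := fun e => h ((hmema _).1 (e ▸ LinearMap.mem_range_self (nup ρ b) z))
  have hinf : ∀ x ∈ La ⊓ Lb, ∃ s : F, x = s • v := by
    have hlt : La ⊓ Lb < La := lt_of_le_of_ne inf_le_left fun e =>
      hne (Submodule.eq_of_le_of_finrank_le (inf_eq_left.1 e) (by omega))
    have hlt' := Submodule.finrank_lt_finrank_of_lt hlt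
    have hle : Submodule.span F {v} ≤ La ⊓ Lb := (Submodule.span_singleton_le_iff_mem _ _).2 ⟨hva, hvb⟩
    have he : Submodule.span F {v} = La ⊓ Lb := Submodule.eq_of_le_of_finrank_le hle (by
      rw [finrank_span_singleton h]; omega)
    intro x hx
    rw [← he, Submodule.mem_span_singleton] at hx
    obtain ⟨s, hs⟩ := hx
    exact ⟨s, hs.symm⟩
  have hpa : ∀ c, ∀ x ∈ La, nup ρ c x ∈ La := fun c x hx => by
    rw [hmema, nup_comm, (hmema x).1 hx, map_zero]
  have hpb : ∀ c, ∀ x ∈ Lb, nup ρ c x ∈ Lb := fun c x hx => by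
    rw [hmemb, nup_comm, (hmemb x).1 hx, map_zero]
  have hNv : ∀ c, nup ρ c v = 0 := by
    intro c
    obtain ⟨s, hs⟩ := hinf _ ⟨hpa c v hva, hpb c v hvb⟩
    have h2 := nup_nup_self ρ c v
    rw [hs, map_smul, hs, smul_smul, smul_eq_zero] at h2
    rw [hs, mul_self_eq_zero.1 (h2.resolve_right h), zero_smul]
  have hperp : ∀ c x, sf x v = 0 → ∃ s : F, nup ρ c x = s • v := by
    have hsum : La ⊔ Lb = LinearMap.ker (sfl v) := by
      have hle : La ⊔ Lb ≤ LinearMap.ker (sfl v) := by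
        refine sup_le ?_ ?_ <;>
          · rintro _ ⟨y, rfl⟩
            rw [LinearMap.mem_ker, sfl_apply, R.sf_nup, hNv, sf_zeroR]
      refine Submodule.eq_of_le_of_finrank_le hle ?_
      have hlt : LinearMap.ker (sfl v) < ⊤ := lt_top_iff_ne_top.2 fun e => h (eq_zero_of_sf fun y => by
        rw [sf_comm, ← sfl_apply]
        exact LinearMap.mem_ker.1 (e ▸ Submodule.mem_top))
      have h4 := Submodule.finrank_lt hlt.ne
      have hV : Module.finrank F (Vec F) = 4 := by simp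
      have hsi := Submodule.finrank_sup_add_finrank_inf_eq La Lb
      have hle' : La ⊓ Lb ≤ Submodule.span F {v} := fun x hx => by
        obtain ⟨s, hs⟩ := hinf x hx
        exact Submodule.mem_span_singleton.2 ⟨s, hs.symm⟩
      have := (Submodule.finrank_mono hle').trans (finrank_span_singleton h).le
      omega
    intro c x hx
    have hx' : x ∈ La ⊔ Lb := by rw [hsum, LinearMap.mem_ker, sfl_apply, hx]
    obtain ⟨p, hp, q, hq, rfl⟩ := Submodule.mem_sup.1 hx'
    obtain ⟨s, hs⟩ := nilp_line hda.le (hpa c) (nup_nup_self ρ c) hva h (hNv c) hp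
    obtain ⟨t, ht⟩ := nilp_line hdb.le (hpb c) (nup_nup_self ρ c) hvb h (hNv c) hq
    exact ⟨s + t, by rw [map_add, hs, ht, add_smul]⟩
  have hfix : ∀ x, (∀ c, nup ρ c x = 0) → ∃ s : F, x = s • v := fun x hx =>
    hinf x ⟨(hmema x).2 (hx a), (hmemb x).2 (hx b)⟩
  exact ⟨v, h, hNv, hperp, hfix⟩

/-- The fixed line, normalised against its image. -/
theorem Rep.exists_line (R : Rep ρ) (hI : Irr ρ) {a b : K} {z : Vec F}
    (hz : nup ρ a (nup ρ b z) ≠ 0) :
    ∃ v : Vec F, v ≠ 0 ∧ (∀ c, nup ρ c v = 0) ∧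
      (∀ c x, sf x v = 0 → ∃ s : F, nup ρ c x = s • v) ∧
      (∀ x, (∀ c, nup ρ c x = 0) → ∃ s : F, x = s • v) ∧ sf v (act ρ wm v) = 1 := by
  classical
  obtain ⟨v, h, hNv, hperp, hfix⟩ := R.exists_fixed_line hz
  have hvw : sf v (act ρ wm v) ≠ 0 := by
    intro e
    have hW : Submodule.span F ({v, act ρ wm v} : Set (Vec F)) = ⊥ := by
      refine hI.eq_bot (fun c x hx => ?_) (fun x hx => ?_) ?_
      · obtain ⟨r, t, rfl⟩ := Submodule.mem_span_pair.1 hx
        obtain ⟨s, hs⟩ := hperp c (act ρ wm v) (by rw [sf_comm, e])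
        refine Submodule.mem_span_pair.2 ⟨r + t * s, t, ?_⟩
        rw [act_up, map_add, map_smul, map_smul, hNv, hs]
        module
      · obtain ⟨r, t, rfl⟩ := Submodule.mem_span_pair.1 hx
        exact Submodule.mem_span_pair.2 ⟨t, r, by rw [map_add, map_smul, map_smul, act_wm_wm, add_comm]⟩
      · have h1 := finrank_span_finset_le_card (R := F) ({v, act ρ wm v} : Finset (Vec F))
        rw [Set.finrank, Finset.coe_insert, Finset.coe_singleton] at h1
        exact h1.trans Finset.card_le_two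
    exact h ((Submodule.mem_bot F).1 (hW ▸ Submodule.subset_span (by simp)))
  obtain ⟨r, hr⟩ := (frobeniusEquiv F 2).surjective (sf v (act ρ wm v))⁻¹
  rw [frobeniusEquiv_apply, frobenius_def] at hr
  have hr0 : r ≠ 0 := fun e => by
    rw [e, zero_pow two_ne_zero] at hr
    exact inv_ne_zero hvw hr.symm
  refine ⟨r • v, smul_ne_zero hr0 h, fun c => by rw [map_smul, hNv, smul_zero], fun c x hx => ?_,
    fun x hx => ?_, ?_⟩
  · rw [sf_smulR, mul_eq_zero, or_iff_right hr0] at hx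
    obtain ⟨s, hs⟩ := hperp c x hx
    exact ⟨s / r, by rw [hs, smul_smul, div_mul_cancel₀ s hr0]⟩
  · obtain ⟨s, hs⟩ := hfix x hx
    exact ⟨s / r, by rw [hs, smul_smul, div_mul_cancel₀ s hr0]⟩
  · rw [map_smul, sf_smulL, sf_smulR, ← mul_assoc, ← pow_two, hr, inv_mul_cancel₀ hvw]

set_option maxHeartbeats 1600000 in
/-- **The non-quadratic case.** -/
theorem Rep.exists_quad [Fintype K] (hK : 4 ≤ Fintype.card K) (R : Rep ρ) (hI : Irr ρ)
    (hq : ¬ ∀ a b x, nup ρ a (nup ρ b x) = 0) :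
    ∃ Q : Vec F → F, IsQuad Q ∧ ∀ g x, Q (act ρ g x) = Q x := by
  classical
  have h2 : (2 : F) = 0 := CharTwo.two_eq_zero
  push Not at hq
  obtain ⟨a₀, b₀, z₀, hz₀⟩ := hq
  obtain ⟨v, hv0, hNv, hperp, hfix, hvv⟩ := R.exists_line hI hz₀
  set w : Vec F →ₗ[F] Vec F := act ρ wm with hw
  have hww : ∀ x, w (w x) = x := act_wm_wm ρ
  set v' := w v with hv'
  have hv'v : sf v' v = 1 := by rw [sf_comm, hvv]
  have hfw : ∀ x y, sf (w x) y = sf x (w y) := fun x y => by
    rw [← R.sf_act wm x (w y), ← hw, hww]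
  -- coordinates
  let γ : K → F := fun c => sf (nup ρ c v') v'
  let y : K → Vec F := fun c => nup ρ c v' + γ c • v
  have hNv' : ∀ c, nup ρ c v' = y c + γ c • v := fun c => by
    show nup ρ c v' = nup ρ c v' + γ c • v + γ c • v
    rw [add_assoc, add_self_vec, add_zero]
  have hNcv : ∀ c x, sf (nup ρ c x) v = 0 := fun c x => by rw [R.sf_nup, hNv, sf_zeroR]
  have hyv : ∀ c, sf (y c) v = 0 := fun c => by
    simp only [y, sf_addL, sf_smulL, hNcv, sf_self, mul_zero, add_zero]
  have hyv' : ∀ c, sf (y c) v' = 0 := fun c => by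
    simp only [y, γ, sf_addL, sf_smulL, hvv, mul_one, CharTwo.add_self_eq_zero]
  have hNperp : ∀ c x, sf x v = 0 → nup ρ c x = sf x (y c) • v := by
    intro c x hx
    obtain ⟨s, hs⟩ := hperp c x hx
    rw [hs]
    congr 1
    have h1 : sf (nup ρ c x) v' = s := by rw [hs, sf_smulL, hvv, mul_one]
    rw [← h1, R.sf_nup, hNv', sf_addR, sf_smulR, hx, mul_zero, add_zero]
  have hNN : ∀ c d, nup ρ c (nup ρ d v') = sf (y d) (y c) • v := fun c d => by
    rw [hNv' d, map_add, map_smul, hNv, smul_zero, add_zero, hNperp c _ (hyv d)]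
  have hγadd : ∀ c d, γ (c + d) = γ c + γ d + sf (y d) (y c) := fun c d => by
    show sf (nup ρ (c + d) v') v' = _
    rw [nup_add, sf_addL, sf_addL, hNN, sf_smulL, hvv, mul_one]
  have hyadd : ∀ c d, y (c + d) = y c + y d := fun c d => by
    show nup ρ (c + d) v' + γ (c + d) • v = _
    rw [nup_add, hNN, hγadd, hNv' c, hNv' d]
    calc _ = y c + y d + ((γ c + γ d + sf (y d) (y c)) • v + (γ c + γ d + sf (y d) (y c)) • v) := by
          module
      _ = _ := by rw [add_self_vec, add_zero]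
  have hy0 : y 0 = 0 := by
    have h := hyadd 0 0
    rwa [add_zero, add_self_vec] at h
  obtain ⟨a, b, hab⟩ : ∃ a b, sf (y a) (y b) ≠ 0 := by
    by_contra hno
    push Not at hno
    refine hz₀ ?_
    have hsplit : sf (z₀ + sf z₀ v • v') v = 0 := by
      rw [sf_addL, sf_smulL, hv'v, mul_one, CharTwo.add_self_eq_zero]
    have h3 := congrArg (nup ρ a₀) (hNperp b₀ _ hsplit)
    rw [map_add, map_smul, map_add, map_smul, hNN, hno, zero_smul, smul_zero, add_zero, map_smul,
      hNv, smul_zero] at h3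
    exact h3
  set e₁ := y a
  set e₂ := y b
  set κ := sf e₁ e₂ with hκ
  have he₁v : sf e₁ v = 0 := hyv a
  have he₂v : sf e₂ v = 0 := hyv b
  have he₁v' : sf e₁ v' = 0 := hyv' a
  have he₂v' : sf e₂ v' = 0 := hyv' b
  let Ψ : Vec F →ₗ[F] F × F × F × F := (sfl v).prod ((sfl v').prod ((sfl e₁).prod (sfl e₂)))
  have hΨsurj : Function.Surjective Ψ := by
    rintro ⟨p, q, r, s⟩
    refine ⟨q • v + p • v' + (s / κ) • e₁ + (r / κ) • e₂, ?_⟩
    simp only [Ψ, LinearMap.prod_apply, Function.prod_apply, sfl_apply, sf_addL, sf_smulL, sf_self,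
      hvv, hv'v, he₁v, he₂v, he₁v', he₂v', sf_comm v e₁, sf_comm v e₂, sf_comm v' e₁, sf_comm v' e₂,
      sf_comm e₂ e₁, ← hκ, mul_zero, mul_one, add_zero, zero_add, div_mul_cancel₀ _ hab]
  have hΨinj : Function.Injective Ψ := (LinearMap.injective_iff_surjective_of_finrank_eq_finrank (by
    simp [Module.finrank_prod])).2 hΨsurj
  have hext : ∀ x x' : Vec F, sf x v = sf x' v → sf x v' = sf x' v' → sf x e₁ = sf x' e₁ →
      sf x e₂ = sf x' e₂ → x = x' := fun x x' h₁ h₂ h₃ h₄ => hΨinj (by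
    simp only [Ψ, LinearMap.prod_apply, Function.prod_apply, sfl_apply, h₁, h₂, h₃, h₄])
  -- a generator of the torus
  obtain ⟨u, hu⟩ := IsCyclic.exists_monoid_generator (α := Kˣ)
  set ε : K := (u : K) * u with hε
  have hgen : ∀ c : K, c ≠ 0 → ∃ k : ℕ, c = ε ^ (2 * k) := by
    intro c hc
    obtain ⟨d, hd⟩ := (frobeniusEquiv K 2).surjective c
    obtain ⟨d', hd'⟩ := (frobeniusEquiv K 2).surjective d
    simp only [frobeniusEquiv_apply, frobenius_def] at hd hd'
    have hd0 : d' ≠ 0 := fun e => hc (by rw [← hd, ← hd', e]; simp)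
    obtain ⟨k, hk⟩ := (Submonoid.mem_powers_iff _ _).1 (hu (Units.mk0 d' hd0))
    refine ⟨k, ?_⟩
    have hk' : (u : K) ^ k = d' := by
      have h := congrArg (fun t : Kˣ => (t : K)) hk
      simpa using h
    rw [← hd, ← hd', ← hk', hε]
    ring
  have hε1 : ε + 1 ≠ 0 := fun e => by
    have e' : ε = 1 := CharTwo.add_eq_zero.1 e
    have hsub : (Finset.univ : Finset K) ⊆ {0, 1} := fun c _ => by
      by_cases hc : c = 0
      · simp [hc]
      · obtain ⟨k, hk⟩ := hgen c hc
        simp [hk, e']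
    have := (Finset.card_le_card hsub).trans Finset.card_le_two
    rw [Finset.card_univ] at this
    omega
  set T : Vec F →ₗ[F] Vec F := act ρ (dg u) with hT
  set Ti : Vec F →ₗ[F] Vec F := act ρ (dg u⁻¹) with hTi
  have hTTi : ∀ x, T (Ti x) = x := fun x => by rw [hT, hTi, ← act_mul, dg_mul, mul_inv_cancel, dg_one, act_one]
  have hTiT : ∀ x, Ti (T x) = x := fun x => by rw [hT, hTi, ← act_mul, dg_mul, inv_mul_cancel, dg_one, act_one]
  have hTf : ∀ x x', sf (T x) (T x') = sf x x' := R.sf_act _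
  have hNT : ∀ c x, nup ρ (ε * c) (T x) = T (nup ρ c x) := fun c x => by
    rw [hT, nup_apply, nup_apply, ← act_mul, hε, ← dg_up, act_mul, map_add]
  obtain ⟨χ, hχ⟩ := hfix (T v) fun c => by
    have hε0 : ε ≠ 0 := by simp [hε]
    rw [← mul_div_cancel₀ c hε0, hNT, hNv, map_zero]
  have hχ0 : χ ≠ 0 := fun e => hv0 (by rw [← hTiT v, hχ, e, zero_smul, map_zero])
  have hTv' : T v' = χ⁻¹ • v' := by
    have h1 : T v' = w (Ti v) := by rw [hv', hT, hTi, hw, ← act_mul, ← act_mul, wm_dg, inv_inv]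
    have h2 : Ti v = χ⁻¹ • v := by
      rw [← hTiT (χ⁻¹ • v), map_smul T, hχ, smul_smul, inv_mul_cancel₀ hχ0, one_smul]
    rw [h1, h2, map_smul]
  have hTW : ∀ x, sf x v = 0 → sf x v' = 0 → sf (T x) v = 0 ∧ sf (T x) v' = 0 := fun x hx hx' => by
    constructor
    · have h := hTf x v
      rw [hχ, sf_smulR, hx, mul_eq_zero] at h
      exact h.resolve_left hχ0
    · have h := hTf x v'
      rw [hTv', sf_smulR, hx', mul_eq_zero] at h
      exact h.resolve_left (inv_ne_zero hχ0)
  have hNε : ∀ c, nup ρ (ε * c) v' = χ • T (nup ρ c v') := fun c => by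
    rw [← hNT, ← map_smul, hTv', smul_smul, mul_inv_cancel₀ hχ0, one_smul]
  have hγε : ∀ c, γ (ε * c) = χ ^ 2 * γ c := fun c => by
    show sf (nup ρ (ε * c) v') v' = χ ^ 2 * sf (nup ρ c v') v'
    rw [hNε, sf_smulL, ← hTf (nup ρ c v') v', hTv', sf_smulR]
    field_simp
  have hyε : ∀ c, y (ε * c) = χ • T (y c) := fun c => by
    show nup ρ (ε * c) v' + γ (ε * c) • v = _
    rw [hNε, hγε, hNv' c, map_add, map_smul, hχ]
    calc _ = χ • T (y c) + ((χ ^ 2 * γ c) • v + (χ ^ 2 * γ c) • v) := by module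
      _ = _ := by rw [add_self_vec, add_zero]
  -- the trace
  set τ := (sf (T e₁) e₂ + sf e₁ (T e₂)) / κ with hτ
  have hτκ : τ * κ = sf (T e₁) e₂ + sf e₁ (T e₂) := div_mul_cancel₀ _ hab
  have hexp : ∀ x, sf x v = 0 → sf x v' = 0 → ∃ p q : F, x = p • e₁ + q • e₂ := fun x hx hx' =>
    ⟨sf x e₂ / κ, sf x e₁ / κ, hext _ _
      (by rw [hx, sf_addL, sf_smulL, sf_smulL, he₁v, he₂v, mul_zero, mul_zero, add_zero])
      (by rw [hx', sf_addL, sf_smulL, sf_smulL, he₁v', he₂v', mul_zero, mul_zero, add_zero])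
      (by rw [sf_addL, sf_smulL, sf_smulL, sf_self, mul_zero, zero_add, sf_comm e₂ e₁, ← hκ,
        div_mul_cancel₀ _ hab])
      (by rw [sf_addL, sf_smulL, sf_smulL, sf_self, mul_zero, add_zero, ← hκ, div_mul_cancel₀ _ hab])⟩
  have hB : ∀ x x', sf x v = 0 → sf x v' = 0 → sf x' v = 0 → sf x' v' = 0 →
      sf (T x) x' + sf x (T x') = τ * sf x x' := by
    intro x x' h₁ h₂ h₃ h₄
    obtain ⟨p, q, rfl⟩ := hexp x h₁ h₂
    obtain ⟨r, s, rfl⟩ := hexp x' h₃ h₄
    simp only [map_add, map_smul, sf_addL, sf_addR, sf_smulL, sf_smulR, sf_self, sf_comm e₂ e₁,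
      sf_comm e₁ (T e₁), sf_comm e₂ (T e₁), sf_comm e₂ (T e₂), sf_comm (T e₂) e₁, ← hκ]
    linear_combination (p * r * sf (T e₁) e₁ + q * s * sf (T e₂) e₂) * h2 - (p * s + q * r) * hτκ
  have hCH : ∀ x, sf x v = 0 → sf x v' = 0 → T (T x) + τ • T x + x = 0 := by
    intro x hx hx'
    have hTx := hTW x hx hx'
    have hTTx := hTW _ hTx.1 hTx.2
    have key : ∀ x', sf x' v = 0 → sf x' v' = 0 → sf (T (T x) + τ • T x + x) (T x') = 0 := by
      intro x' h₃ h₄
      rw [sf_addL, sf_addL, sf_smulL, hTf, hTf]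
      linear_combination hB x x' hx hx' h₃ h₄ + τ * sf x x' * h2
    have he : ∀ e, sf e v = 0 → sf e v' = 0 → sf (T (T x) + τ • T x + x) e = 0 := by
      intro e he he'
      have h := key (Ti e) ?_ ?_
      · rwa [hTTi] at h
      · rw [← hTf, hTTi, hχ, sf_smulR, he, mul_zero]
      · rw [← hTf, hTTi, hTv', sf_smulR, he', mul_zero]
    refine hext _ _ ?_ ?_ ?_ ?_ <;> rw [sf_zeroL]
    · rw [sf_addL, sf_addL, sf_smulL, hTx.1, hTTx.1, hx, mul_zero, add_zero, add_zero]
    · rw [sf_addL, sf_addL, sf_smulL, hTx.2, hTTx.2, hx', mul_zero, add_zero, add_zero]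
    · exact he e₁ he₁v he₁v'
    · exact he e₂ he₂v he₂v'
  have hpow : ∀ k c, c = ε ^ (2 * k) → T (T (y 1)) = y 1 → y c = χ ^ (2 * k) • y 1 := by
    intro k
    induction k with
    | zero => intro c hc _; simp [hc]
    | succ k ih =>
      intro c hc hTT
      rw [hc, show ε ^ (2 * (k + 1)) = ε * (ε * ε ^ (2 * k)) by ring, hyε, hyε, ih _ rfl hTT,
        map_smul, map_smul, map_smul, hTT, smul_smul, smul_smul]
      congr 1
      ring
  have hτ0 : τ ≠ 0 := by
    intro e
    refine hab ?_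
    have hTT : T (T (y 1)) = y 1 := by
      have h := hCH _ (hyv 1) (hyv' 1)
      rw [e, zero_smul, add_zero] at h
      rw [eq_add_of_add h, zero_add]
    have hline : ∀ c, ∃ s : F, y c = s • y 1 := fun c => by
      by_cases hc : c = 0
      · exact ⟨0, by rw [hc, hy0, zero_smul]⟩
      · obtain ⟨k, hk⟩ := hgen c hc
        exact ⟨_, hpow k c hk hTT⟩
    obtain ⟨s, hs⟩ := hline a
    obtain ⟨t, ht⟩ := hline b
    show sf (y a) (y b) = 0
    rw [hs, ht, sf_smulL, sf_smulR, sf_self, mul_zero, mul_zero]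
  -- the quadratic map on the plane
  let q : Vec F → F := fun x => sf (T x) x / τ
  have hqadd : ∀ x x', sf x v = 0 → sf x v' = 0 → sf x' v = 0 → sf x' v' = 0 →
      q (x + x') = q x + q x' + sf x x' := by
    intro x x' h₁ h₂ h₃ h₄
    have h := hB x x' h₁ h₂ h₃ h₄
    simp only [q, map_add, sf_addL, sf_addR]
    rw [sf_comm (T x') x]
    field_simp
    linear_combination h
  let δ : K → F := fun c => γ c + q (y c)
  have hδadd : ∀ c d, δ (c + d) = δ c + δ d := fun c d => by
    simp only [δ, hγadd, hyadd, hqadd _ _ (hyv c) (hyv' c) (hyv d) (hyv' d), sf_comm (y d) (y c)]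
    linear_combination sf (y c) (y d) * h2
  have hδε : ∀ c, δ (ε * c) = χ ^ 2 * δ c := fun c => by
    simp only [δ, q, hγε, hyε, map_smul, sf_smulL, sf_smulR, hTf]
    ring
  have hδ : ∀ c, δ c = 0 := by
    by_contra hne
    push Not at hne
    obtain ⟨c₀, hc₀⟩ := hne
    have hk : ∀ k c, δ (ε ^ k * c) = χ ^ (2 * k) * δ c := by
      intro k
      induction k with
      | zero => intro c; simp
      | succ k ih => intro c; rw [pow_succ', mul_assoc ε, hδε, ih]; ring
    have hk' : ∀ k c d, sf (y (ε ^ k * c)) (y (ε ^ k * d)) = χ ^ (2 * k) * sf (y c) (y d) := by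
      intro k
      induction k with
      | zero => intro c d; simp
      | succ k ih =>
        intro c d
        rw [pow_succ', mul_assoc ε, mul_assoc ε, hyε, hyε, sf_smulL, sf_smulR, hTf, ih]
        ring
    obtain ⟨m, hm⟩ := hgen _ hε1
    have h1 := hk (2 * m) c₀
    rw [← hm, add_mul, one_mul, hδadd, hδε] at h1
    have h3 := hk' (2 * m) a b
    rw [← hm, add_mul, one_mul, add_mul, one_mul, hyadd, hyadd, hyε, hyε] at h3
    simp only [sf_addL, sf_addR, sf_smulL, sf_smulR, hTf] at h3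
    have hX : χ ^ (2 * (2 * m)) = χ ^ 2 + 1 := mul_right_cancel₀ hc₀ (by rw [← h1]; ring)
    rw [hX] at h3
    refine mul_ne_zero hχ0 (mul_ne_zero hτ0 hab) ?_
    linear_combination χ * hτκ + h3
  -- the invariant map
  let π : Vec F →ₗ[F] Vec F := LinearMap.id + (sfl v').smulRight v + (sfl v).smulRight v'
  have hπ : ∀ x, π x = x + sf x v' • v + sf x v • v' := fun x => rfl
  have hπv : ∀ x, sf (π x) v = 0 := fun x => by
    simp only [hπ, sf_addL, sf_smulL, sf_self, hv'v, mul_zero, mul_one, add_zero, CharTwo.add_self_eq_zero]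
  have hπv' : ∀ x, sf (π x) v' = 0 := fun x => by
    simp only [hπ, sf_addL, sf_smulL, sf_self, hvv, mul_zero, mul_one, add_zero, CharTwo.add_self_eq_zero]
  refine ⟨fun x => sf x v * sf x v' + q (π x), ⟨fun c x => ?_, fun x x' => ?_⟩, ?_⟩
  rotate_left 2
  refine act_invariant_of_gen (ρ := ρ) (fun x => sf x v * sf x v' + q (π x)) (fun c x => ?_) fun x => ?_
  rotate_left 2
  · simp only [q, map_smul, sf_smulL, sf_smulR]
    ring
  · have hpol : sf (π x) (π x') = sf x x' + sf x v' * sf x' v + sf x v * sf x' v' := by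
      conv_lhs => rw [hπ x', sf_addR, sf_addR, sf_smulR, sf_smulR, hπv, hπv', mul_zero, mul_zero, add_zero, add_zero]
      rw [hπ x, sf_addL, sf_addL, sf_smulL, sf_smulL, sf_comm v x', sf_comm v' x']
    simp only [map_add, hqadd _ _ (hπv x) (hπv' x) (hπv x') (hπv' x'), hpol, sf_addL]
    linear_combination (sf x v * sf x' v' + sf x v' * sf x' v) * h2
  · have h₁ : sf (nup ρ c x) v' = sf (π x) (y c) + γ c * sf x v := by
      rw [R.sf_nup, hNv', sf_addR, sf_smulR, hπ x, sf_addL, sf_addL, sf_smulL, sf_smulL,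
        sf_comm v (y c), sf_comm v' (y c), hyv, hyv', mul_zero, mul_zero, add_zero, add_zero]
    have hcomp : ∀ e, sf e v = 0 → sf e v' = 0 → sf (π (nup ρ c x)) e = sf (sf x v • y c) e := by
      intro e he he'
      rw [hπ, sf_addL, sf_addL, sf_smulL, sf_smulL, sf_comm v e, sf_comm v' e, he, he', R.sf_nup,
        hNperp c e he, sf_smulR, sf_smulL, sf_comm e (y c), mul_zero, mul_zero, add_zero, add_zero,
        mul_comm]
    have h₂ : π (nup ρ c x) = sf x v • y c := hext _ _ (by rw [hπv, sf_smulL, hyv, mul_zero])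
      (by rw [hπv', sf_smulL, hyv', mul_zero]) (hcomp e₁ he₁v he₁v') (hcomp e₂ he₂v he₂v')
    have hq' : q (sf x v • y c) = sf x v ^ 2 * q (y c) := by
      simp only [q, map_smul, sf_smulL, sf_smulR]
      ring
    have hv₁ : sf (sf x v • y c) v = 0 := by rw [sf_smulL, hyv, mul_zero]
    have hv₂ : sf (sf x v • y c) v' = 0 := by rw [sf_smulL, hyv', mul_zero]
    simp only [act_up, map_add, sf_addL, hNcv, add_zero, h₁, h₂,
      hqadd _ _ (hπv x) (hπv' x) hv₁ hv₂, hq', sf_smulR]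
    have h := hδ c
    simp only [δ] at h
    linear_combination sf x v ^ 2 * h + sf x v * sf (π x) (y c) * h2
  · have hwv' : w v' = v := hww v
    have hπw : π (w x) = w (π x) := by
      simp only [hπ, map_add, map_smul, hfw, ← hv', hwv']
      abel
    have hTw : T (w (π x)) = w (Ti (π x)) := by rw [hT, hTi, hw, ← act_mul, ← act_mul, wm_dg, inv_inv]
    have hTi' : Ti (π x) = T (π x) + τ • π x := by
      have h := congrArg Ti (hCH _ (hπv x) (hπv' x))
      rw [map_add, map_add, map_smul, hTiT, hTiT, map_zero] at h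
      rw [add_comm] at h
      rw [eq_add_of_add h, zero_add]
    have hqw : q (π (w x)) = q (π x) := by
      show sf (T (π (w x))) (π (w x)) / τ = sf (T (π x)) (π x) / τ
      rw [hπw, hTw, hw, R.sf_act, hTi', sf_addL, sf_smulL, sf_self, mul_zero, add_zero]
    show sf (w x) v * sf (w x) v' + q (π (w x)) = sf x v * sf x v' + q (π x)
    rw [hfw, hfw, hwv', ← hv', hqw, mul_comm]

/-- **No `SL₂(2^n)`, `n ≥ 2`.** -/
theorem not_psl_even {F : Type*} [Field F] [Fintype F] [CharP F 2]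
    {P : Subgroup (GL (Fin 2 ⊕ Fin 2) F)} (C : Core P) (h : AllCTwo P) {K : Type} [Field K]
    [Fintype K] [CharP K 2] (hK : 4 ≤ Fintype.card K) :
    IsEmpty (Matrix.SpecialLinearGroup (Fin 2) K ≃* ↥P) := by
  refine ⟨fun e => ?_⟩
  let ρ : Matrix.SpecialLinearGroup (Fin 2) K →* GL (Fin 2 ⊕ Fin 2) F :=
    P.subtype.comp e.toMonoidHom
  have hρ : ∀ g, ρ g = (e g).1 := fun g => rfl
  have hsur : ∀ s ∈ Cfsg.Geo.matrixSet P, ∃ g, (ρ g).1 = s := by
    rintro _ ⟨p, hp, rfl⟩
    exact ⟨e.symm ⟨p, hp⟩, by rw [hρ, e.apply_symm_apply]⟩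
  have R : Rep ρ := by
    refine ⟨fun g => C.le_sp (e g).2, fun a ha => h _ (e (up a)).2 ?_ ?_⟩
    · show (e (up a)).1 * (e (up a)).1 = 1
      rw [← Subgroup.coe_mul, ← map_mul, up_sq, map_one, Subgroup.coe_one]
    · intro h1
      have h2 : e (up a) = e 1 := Subtype.ext (by rw [map_one, Subgroup.coe_one]; exact h1)
      have h3 := congrArg (fun g : Matrix.SpecialLinearGroup (Fin 2) K => g.1 0 1) (e.injective h2)
      exact ha (by simpa [up_val] using h3)
  have hI : Irr ρ := fun W hW => C.abs_irr.1 W fun s hs => by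
    obtain ⟨g, rfl⟩ := hsur s hs
    rintro _ ⟨x, hx, rfl⟩
    rw [Matrix.toLin'_apply]
    exact hW g x hx
  have hS : Scal ρ := by
    intro Φ hΦ
    obtain ⟨c, hc⟩ := C.abs_irr.2 (LinearMap.toMatrix' Φ) fun s hs => by
      obtain ⟨g, rfl⟩ := hsur s hs
      refine Matrix.toLin'.injective (LinearMap.ext fun x => ?_)
      rw [Matrix.toLin'_mul_apply, Matrix.toLin'_mul_apply, Matrix.toLin'_toMatrix', Matrix.toLin'_apply,
        Matrix.toLin'_apply]
      exact hΦ g x
    refine ⟨c, fun x => ?_⟩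
    have h1 := congrArg (fun M => Matrix.toLin' M x) hc
    simpa using h1
  by_cases hq : ∀ a b x, nup ρ a (nup ρ b x) = 0
  · exact R.not_quadratic hI hS hq
  · obtain ⟨Q, hQ, hinv⟩ := R.exists_quad hK hI hq
    refine C.no_quad ⟨Q, hQ, fun g hg x => ?_⟩
    have hh := hinv (e.symm ⟨g, hg⟩) x
    rwa [act_apply, hρ, e.apply_symm_apply] at hh

end Cfsg.Agent.SpFourRes.CTwo
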