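/-
Traces of elements of order five of `SL₂(K)` in `Sp₄(F)`, involutions of type c2, an element of
order three without fixed vector.

Main results: `Rep.five_trace`.
-/
import Cfsg.Agent.Lib.SpFourRes.CTwo.Linear
import Cfsg.Agent.Lib.Mitchell.Residual.Core

set_option autoImplicit false
set_option linter.unusedSectionVars false

namespace Cfsg.Agent.SpFourRes.CTwo

open Matrix Cfsg.Agent.SL2Module

variable {F : Type*} [Field F] [CharP F 2] [Finite F] {K : Type*} [Field K] [CharP K 2] [Finite K]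
  {ρ : Matrix.SpecialLinearGroup (Fin 2) K →* GL (Fin 2 ⊕ Fin 2) F}

local notation "SL" => Matrix.SpecialLinearGroup (Fin 2) K

/-- An element of non-zero trace is conjugate to `up t * wm`. -/
theorem exists_conj_companion {g : SL} {t : K} (hg : Matrix.trace g.1 = t) (ht : t ≠ 0) :
    ∃ P : SL, g = P * (up t * wm) * P⁻¹ := by
  have h2 : (2 : K) = 0 := CharTwo.two_eq_zero
  have htr : g.1 1 1 = t + g.1 0 0 := by
    rw [Matrix.trace_fin_two] at hg
    linear_combination hg - g.1 0 0 * h2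
  have hdet : g.1 0 0 * g.1 1 1 - g.1 0 1 * g.1 1 0 = 1 := by rw [← Matrix.det_fin_two]; exact g.2
  obtain ⟨p, q, hd⟩ : ∃ p q : K,
      (g.1 0 0 * p + g.1 0 1 * q) * q - (g.1 1 0 * p + g.1 1 1 * q) * p ≠ 0 := by
    by_contra hc
    push Not at hc
    refine ht ?_
    linear_combination hc 1 0 + hc 0 1 - hc 1 1 - htr
  obtain ⟨r, hr⟩ := FiniteField.isSquare_of_char_two (ringChar.eq K 2)
    ((g.1 0 0 * p + g.1 0 1 * q) * q - (g.1 1 0 * p + g.1 1 1 * q) * p)
  have hr0 : r ≠ 0 := fun e => hd (by rw [hr, e, mul_zero])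
  let P : SL := ⟨!![(g.1 0 0 * p + g.1 0 1 * q) / r, p / r; (g.1 1 0 * p + g.1 1 1 * q) / r, q / r], by
    rw [Matrix.det_fin_two_of]
    field_simp
    linear_combination hr⟩
  have h : g * P = P * (up t * wm) := by
    refine Subtype.ext ?_
    rw [val_mul, val_mul, val_mul, up_val, wm_val]
    show g.1 * !![_, _; _, _] = !![_, _; _, _] * _
    rw [Matrix.eta_fin_two g.1]
    simp only [Matrix.mul_fin_two]
    ext i j
    fin_cases i <;> fin_cases j <;> simp <;> field_simp
    · linear_combination (g.1 0 0 * p + g.1 0 1 * q) * htr - p * hdet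
        + (p * g.1 0 0 ^ 2 - p + q * g.1 0 1 * g.1 0 0) * h2
    · linear_combination (g.1 1 0 * p + g.1 1 1 * q) * htr - q * hdet
        + (p * g.1 1 0 * g.1 0 0 + q * g.1 0 0 * g.1 1 1 - q) * h2
  exact ⟨P, by rw [← h, mul_inv_cancel_right]⟩

/-- The trace of `ρ` is constant on classes. -/
theorem trace_conj (P h : SL) :
    Matrix.trace (ρ (P * h * P⁻¹)).1 = Matrix.trace (ρ h).1 := by
  rw [map_mul, map_mul, Units.val_mul, Units.val_mul, map_inv, Matrix.trace_units_conj]

/-- A symmetric relation for elements of trace one. -/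
theorem cyclotomic_three {g : SL} (hg : g ^ 3 = 1) (hfix : ∀ x, act ρ g x = x → x = 0) {x : SL}
    (hx : Matrix.trace x.1 = 1) (z : Vec F) : act ρ x (act ρ x z) + act ρ x z + z = 0 := by
  have h2 : (2 : K) = 0 := CharTwo.two_eq_zero
  have hg1 : g ≠ 1 := fun e => by
    obtain ⟨x₀, hx₀⟩ := exists_ne (0 : Vec F)
    exact hx₀ (hfix x₀ (by rw [e, act_one]))
  have htr : Matrix.trace g.1 = 1 := by
    have hdet : g.1 0 0 * g.1 1 1 - g.1 0 1 * g.1 1 0 = 1 := by rw [← Matrix.det_fin_two]; exact g.2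
    have h3 := congrArg (fun M : SL => M.1) hg
    rw [show g ^ 3 = g * g * g by simp [pow_succ], val_mul, val_mul, val_one, Matrix.eta_fin_two g.1,
      Matrix.mul_fin_two, Matrix.mul_fin_two, Matrix.one_fin_two] at h3
    have e00 := congrFun (congrFun h3 0) 0
    have e01 := congrFun (congrFun h3 0) 1
    have e10 := congrFun (congrFun h3 1) 0
    have e11 := congrFun (congrFun h3 1) 1
    simp at e00 e01 e10 e11
    rw [Matrix.trace_fin_two]
    by_contra hne
    have ht : (g.1 0 0 + g.1 1 1 + 1) ^ 2 ≠ 0 := pow_ne_zero _ fun e => hne (by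
      linear_combination e - h2)
    have f01 : g.1 0 1 = 0 := (mul_eq_zero.1 (show (g.1 0 0 + g.1 1 1 + 1) ^ 2 * g.1 0 1 = 0 by
      linear_combination e01 + g.1 0 1 * hdet
        + (g.1 0 0 + g.1 1 1 + 1) * g.1 0 1 * h2)).resolve_left ht
    have f10 : g.1 1 0 = 0 := (mul_eq_zero.1 (show (g.1 0 0 + g.1 1 1 + 1) ^ 2 * g.1 1 0 = 0 by
      linear_combination e10 + g.1 1 0 * hdet
        + (g.1 0 0 + g.1 1 1 + 1) * g.1 1 0 * h2)).resolve_left ht
    rw [f01, f10] at e00 e11 hdet
    have f00 : g.1 0 0 = 1 := by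
      by_contra h
      refine hne ?_
      have hq : (g.1 0 0 - 1) * (g.1 0 0 ^ 2 + g.1 0 0 + 1) = 0 := by linear_combination e00
      have hq' := (mul_eq_zero.1 hq).resolve_left (sub_ne_zero.2 h)
      linear_combination hq' - h2 - g.1 1 1 * e00 + g.1 0 0 ^ 2 * hdet
    have f11 : g.1 1 1 = 1 := by rw [f00] at hdet; linear_combination hdet
    refine hg1 (Subtype.ext ?_)
    rw [Matrix.eta_fin_two g.1, f00, f01, f10, f11, val_one, Matrix.one_fin_two]
  obtain ⟨c, hc⟩ := exists_conj_of_trace_one htr hx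
  have hx3 : x * (x * x) = 1 := by
    rw [← hc]
    calc c * g * c⁻¹ * (c * g * c⁻¹ * (c * g * c⁻¹)) = (c * g * c⁻¹) ^ 3 := (pow_three _).symm
      _ = 1 := by rw [conj_pow, hg, mul_one, mul_inv_cancel]
  set y := act ρ x (act ρ x z) + act ρ x z + z with hy
  have hyx : act ρ x y = y := by
    have h : act ρ x (act ρ x (act ρ x z)) = z := by rw [← act_mul, ← act_mul, mul_assoc, hx3, act_one]
    rw [hy, map_add, map_add, h]
    abel
  have h := hfix (act ρ c⁻¹ y) (by
    rw [← act_mul, show g * c⁻¹ = c⁻¹ * x by rw [← hc]; group, act_mul, hyx])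
  have h' := congrArg (act ρ c) h
  rwa [← act_mul, mul_inv_cancel, act_one, map_zero] at h'

set_option maxHeartbeats 400000 in
/-- With `T = act (dg ω²)` free of fixed vectors the root group acts quadratically. -/
theorem Rep.quadratic_of_omega (R : Rep ρ) {ω : K} (hω : ω * ω + ω + 1 = 0)
    (h3 : ∀ x : SL, Matrix.trace x.1 = 1 → ∀ z, act ρ x (act ρ x z) + act ρ x z + z = 0)
    (a b : K) (z : Vec F) : nup ρ a (nup ρ b z) = 0 := by
  by_contra hne
  obtain ⟨v, hv0, hNv, hperp, hfix⟩ := R.exists_fixed_line hne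
  have h2K : (2 : K) = 0 := CharTwo.two_eq_zero
  have h2 : (2 : F) = 0 := CharTwo.two_eq_zero
  have hω3 : ω * (ω * ω) = 1 := by linear_combination (ω - 1) * hω
  let u : Kˣ := ⟨ω * ω, ω, by linear_combination hω3, hω3⟩
  have hu2 : (u : K) * u = ω := by
    show ω * ω * (ω * ω) = ω
    linear_combination ω * hω3
  set T : Vec F →ₗ[F] Vec F := act ρ (dg u) with hT
  have hTT : ∀ x, T (T x) = T x + x := fun x => by
    have h := h3 (dg u) (by
      rw [dg_val, Matrix.trace_fin_two_of]
      show ω * ω + ω = 1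
      linear_combination hω - h2K) x
    rw [← hT, add_assoc] at h
    rw [eq_add_of_add h, zero_add]
  have hTf : ∀ x x', sf (T x) (T x') = sf x x' := R.sf_act _
  have hNT : ∀ c x, nup ρ (ω * c) (T x) = T (nup ρ c x) := fun c x => by
    rw [hT, nup_apply, nup_apply, ← act_mul, ← hu2, ← dg_up, act_mul, map_add]
  obtain ⟨χ, hχ⟩ := hfix (T v) fun c => by
    rw [show c = ω * (ω * ω * c) by linear_combination (-c) * hω3, hNT, hNv, map_zero]
  have hχ2 : χ * χ + χ + 1 = 0 := by
    have h := hTT v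
    rw [hχ, map_smul, hχ, smul_smul, ← sub_eq_zero] at h
    have h' : (χ * χ - (χ + 1)) • v = 0 := by rw [← h]; module
    linear_combination (smul_eq_zero.1 h').resolve_right hv0 + (χ + 1) * h2
  have hχ0 : χ ≠ 0 := fun e => by simp [e] at hχ2
  -- the vectors `n c`
  set n : K → Vec F := fun c => nup ρ c z with hn
  have hNcv : ∀ c x, sf (nup ρ c x) v = 0 := fun c x => by rw [R.sf_nup, hNv, sf_zeroR]
  have hz : sf z v ≠ 0 := fun e => by
    obtain ⟨s, hs⟩ := hperp b z e
    rw [hs, map_smul, hNv, smul_zero] at hne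
    exact hne rfl
  have hdiff : sf (χ • T z + z) v = 0 := by
    have h := hTf z v
    rw [hχ, sf_smulR] at h
    rw [sf_addL, sf_smulL, h, CharTwo.add_self_eq_zero]
  have hnω : ∀ c, ∃ s : F, n (ω * c) = χ • T (n c) + s • v := fun c => by
    obtain ⟨s, hs⟩ := hperp (ω * c) _ hdiff
    rw [map_add, map_smul, hNT, add_comm] at hs
    exact ⟨s, by rw [add_comm]; exact eq_add_of_add hs⟩
  have hTn : ∀ c, ∃ s : F, T (n c) = χ • n c + s • v := fun c => by
    obtain ⟨s, hs⟩ := hnω c
    obtain ⟨s', hs'⟩ := hnω (ω * c)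
    obtain ⟨t, ht⟩ := hperp (ω * c) (n c) (hNcv c z)
    have e : ω * (ω * c) = ω * c + c := by linear_combination c * hω - (ω * c + c) * h2K
    rw [e] at hs'
    simp only [hn] at hs hs' ht ⊢
    rw [nup_add, ht, hs, map_add, map_smul, map_smul, hTT, hχ] at hs'
    refine ⟨χ * (s * χ) + s' + s + t, ?_⟩
    rw [← sub_eq_zero] at hs'
    have h0 : (χ - χ * χ) • T (nup ρ c z) + (1 - χ * χ) • nup ρ c z
        + (s + t - χ * (s * χ) - s') • v = 0 := by rw [← hs']; module
    have c1 : χ - χ * χ = 1 := by linear_combination hχ2 - (1 + χ * χ) * h2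
    have c2 : 1 - χ * χ = χ := by linear_combination hχ2 - (χ + χ * χ) * h2
    have c3 : s + t - χ * (s * χ) - s' = χ * (s * χ) + s' + s + t := by
      linear_combination (- χ * (s * χ) - s') * h2
    rw [c1, c2, c3, one_smul, add_assoc] at h0
    rw [eq_add_of_add h0, zero_add]
  have hab : sf (n b) (n a) ≠ 0 := by
    obtain ⟨s, hs⟩ := hperp a (n b) (hNcv b z)
    have h : sf (n b) (n a) = s * sf z v := by
      show sf (n b) (nup ρ a z) = _
      rw [← R.sf_nup, hs, sf_smulL, sf_comm v z]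
    rw [h]
    exact mul_ne_zero (fun e => hne (by rw [show nup ρ b z = n b from rfl, hs, e, zero_smul])) hz
  obtain ⟨sa, hsa⟩ := hTn a
  obtain ⟨sb, hsb⟩ := hTn b
  have h := hTf (n b) (n a)
  have hnv : ∀ c, sf (n c) v = 0 := fun c => hNcv c z
  simp only [hsa, hsb, sf_addL, sf_addR, sf_smulL, sf_smulR, sf_self, sf_comm v (n a), hnv,
    mul_zero, add_zero] at h
  have hsq : χ * χ = 1 := mul_right_cancel₀ hab (by linear_combination h)
  exact hχ0 (by linear_combination hχ2 - hsq - h2)

set_option maxHeartbeats 400000 in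
/-- **Elements of order five have trace zero or one.** -/
theorem Rep.five_trace (R : Rep ρ) {g₃ : SL} (hg₃ : g₃ ^ 3 = 1)
    (hfix₃ : ∀ x, act ρ g₃ x = x → x = 0) {g : SL} (hg : g ^ 5 = 1) :
    Matrix.trace (ρ g).1 = 0 ∨ Matrix.trace (ρ g).1 = 1 := by
  classical
  have h3 : ∀ x : SL, Matrix.trace x.1 = 1 → ∀ z, act ρ x (act ρ x z) + act ρ x z + z = 0 :=
    fun x hx z => cyclotomic_three hg₃ hfix₃ hx z
  have h2K : (2 : K) = 0 := CharTwo.two_eq_zero
  have h2 : (2 : F) = 0 := CharTwo.two_eq_zero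
  have htr1 : Matrix.trace (1 : Matrix (Fin 2 ⊕ Fin 2) (Fin 2 ⊕ Fin 2) F) = 0 := by
    simp; linear_combination (2 : F) * h2
  by_cases hg1 : g = 1
  · left; rw [hg1, map_one, Units.val_one, htr1]
  set ω := Matrix.trace g.1 with hωdef
  have hω : ω * ω + ω + 1 = 0 := by
    set M := g.1 with hM
    have hdet : M 0 0 * M 1 1 - M 0 1 * M 1 0 = 1 := by rw [← Matrix.det_fin_two]; exact g.2
    have hCH : M * M = ω • M + (1 : Matrix (Fin 2) (Fin 2) K) := by
      ext i j
      rw [hωdef, Matrix.trace_fin_two]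
      fin_cases i <;> fin_cases j <;> simp [Matrix.mul_apply, Fin.sum_univ_two]
      · linear_combination -hdet - h2K
      · ring
      · ring
      · linear_combination -hdet - h2K
    have h4 : M * M * (M * M) = (ω * ω * ω) • M + (ω * ω + 1) • (1 : Matrix (Fin 2) (Fin 2) K) := by
      rw [hCH]
      simp only [add_mul, mul_add, smul_mul_assoc, mul_smul_comm, one_mul, mul_one, hCH, smul_add, smul_smul]
      match_scalars
      · linear_combination ω * h2K
      · ring
    have h5 : (ω * ω * ω * ω + ω * ω + 1) • M + (ω * ω * ω) • (1 : Matrix (Fin 2) (Fin 2) K) = 1 := by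
      have h := congrArg (fun x : SL => x.1) hg
      rw [show g ^ 5 = g * g * (g * g) * g by simp [pow_succ, mul_assoc], val_mul, val_mul, val_mul,
        val_one, ← hM, h4, add_mul, smul_mul_assoc, smul_mul_assoc, one_mul, hCH] at h
      refine Eq.trans ?_ h
      module
    by_contra hne
    have hne' : ω * ω * ω * ω + ω * ω + 1 ≠ 0 := fun e =>
      hne (mul_self_eq_zero.1 (by linear_combination e + (ω * ω * ω + ω * ω + ω) * h2K))
    have e01 := congrFun (congrFun h5 0) 1
    have e10 := congrFun (congrFun h5 1) 0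
    have e00 := congrFun (congrFun h5 0) 0
    have e11 := congrFun (congrFun h5 1) 1
    simp [hne'] at e01 e10 e00 e11
    have hd : M 0 0 = M 1 1 := mul_left_cancel₀ hne' (by linear_combination e00 - e11)
    have hω0 : ω = 0 := by
      rw [hωdef, Matrix.trace_fin_two, hd, CharTwo.add_self_eq_zero]
    simp [hω0] at e00 e11
    refine hg1 (Subtype.ext ?_)
    rw [val_one, ← hM, Matrix.eta_fin_two M, e00, e11, e01, e10, Matrix.one_fin_two]
  have hω0 : ω ≠ 0 := fun e => by simp [e] at hω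
  have hq := R.quadratic_of_omega hω h3
  set L := LinearMap.range (nup ρ 1) with hLdef
  obtain ⟨hker1, hdim⟩ := R.ker_eq_range (one_ne_zero (α := K))
  have hrange : ∀ (a : K) (x : Vec F), nup ρ a x ∈ L := fun a x => by
    rw [hLdef, hker1]; exact hq 1 a x
  have huL : ∀ a, ∀ x ∈ L, act ρ (up a) x = x := by
    rintro a _ ⟨y, rfl⟩
    rw [act_up, hq, add_zero]
  set w : Vec F →ₗ[F] Vec F := act ρ wm with hw
  have hww : ∀ x, w (w x) = x := act_wm_wm ρ
  have hone : ∀ x, act ρ (up (1 : K) * wm) x = w x + nup ρ 1 (w x) := fun x => by rw [act_mul, act_up]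
  have htrx : Matrix.trace (up (1 : K) * wm : SL).1 = 1 := by
    simp [up_val, wm_val, Matrix.trace_fin_two, val_mul]
  -- `L ∩ w L = 0`
  have hint : ∀ x ∈ L, w x ∈ L → x = 0 := by
    intro x hx hwx
    have h := h3 _ htrx x
    simp only [act_mul, ← hw, huL _ _ hwx, hww, huL _ _ hx] at h
    rw [add_comm x, add_assoc, add_self_vec, add_zero] at h
    rw [← hww x, h, map_zero]
  have hS1 : ∀ l ∈ L, nup ρ 1 (w l) = l := by
    intro l hl
    have h := h3 _ htrx l
    simp only [hone, map_add, hww] at h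
    have hl0 : nup ρ 1 l = 0 := by
      obtain ⟨y, rfl⟩ := hl
      exact hq _ _ _
    rw [hl0, zero_add] at h
    have e : w (nup ρ 1 (w l) + l) = nup ρ 1 (w (nup ρ 1 (w l))) + nup ρ 1 (w l) := by
      rw [map_add]
      have h' : w (nup ρ 1 (w l)) + w l
          + (nup ρ 1 (w (nup ρ 1 (w l))) + nup ρ 1 (w l) + (l + l)) = 0 := by
        rw [← h]; abel
      rw [add_self_vec, add_zero] at h'
      rw [eq_add_of_add h', zero_add]
    have h0 := hint _ (L.add_mem (hrange _ _) hl) (e ▸ L.add_mem (hrange _ _) (hrange _ _))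
    rw [eq_add_of_add h0, zero_add]
  -- the trace of `u_c w`
  let s : K → F := fun c => Matrix.trace (ρ (up c * wm)).1
  have hact : ∀ g : SL, LinearMap.trace F _ (act ρ g) = Matrix.trace (ρ g).1 := fun g => by
    rw [act, ← Matrix.toLin'_apply', Matrix.trace_toLin'_eq]
  have hsc : ∀ c, s c = LinearMap.trace F _ w + LinearMap.trace F _ ((nup ρ c).comp w) := fun c => by
    rw [← map_add]
    show Matrix.trace (ρ (up c * wm)).1 = _
    rw [← hact]
    congr 1
    refine LinearMap.ext fun x => ?_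
    rw [act_mul, act_up]
    rfl
  have hw0 : LinearMap.trace F _ w = 0 := by
    rw [hw, hact]
    have h := Mitchell.Residual.trace_pow_char 2 (ρ wm).1
    rw [pow_two (ρ wm).1, ← Units.val_mul, ← map_mul, wm_sq, map_one, Units.val_one, htr1] at h
    exact sq_eq_zero_iff.1 h.symm
  have hsadd : ∀ c d, s (c + d) = s c + s d := fun c d => by
    rw [hsc, hsc, hsc, hw0, zero_add, zero_add, zero_add, ← map_add, ← LinearMap.add_comp]
    congr 2
    exact LinearMap.ext fun x => by rw [LinearMap.add_apply, nup_add, hq, add_zero]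
  have hs1 : s 1 = 0 := by
    rw [hsc, hw0, zero_add,
      ← LinearMap.trace_restrict_eq_of_forall_mem L _ (fun x => hrange 1 (w x))]
    have e : ((nup ρ 1).comp w).restrict (fun x (_ : x ∈ L) => hrange 1 (w x)) = LinearMap.id :=
      LinearMap.ext fun l => Subtype.ext (hS1 l.1 l.2)
    rw [e, LinearMap.trace_id, show Module.finrank F L = 2 from hdim, Nat.cast_ofNat, h2]
  -- `x ^ 2` is conjugate to `u_{ω²} w`
  have hsq : s (ω * ω) = s ω * s ω := by
    have htr2 : Matrix.trace (up ω * wm * (up ω * wm) : SL).1 = ω * ω := by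
      simp [up_val, wm_val, Matrix.trace_fin_two, val_mul]
      linear_combination h2K
    obtain ⟨P, hP⟩ := exists_conj_companion htr2 (mul_ne_zero hω0 hω0)
    have h := Mitchell.Residual.trace_pow_char 2 (ρ (up ω * wm)).1
    rw [pow_two, ← Units.val_mul, ← map_mul, hP, trace_conj, pow_two] at h
    exact h
  have e : ω * ω = ω + 1 := by linear_combination hω - (ω + 1) * h2K
  rw [e, hsadd, hs1, add_zero] at hsq
  obtain ⟨P, hP⟩ := exists_conj_companion hωdef.symm hω0
  rw [hP, trace_conj]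
  show s ω = 0 ∨ s ω = 1
  by_cases h0 : s ω = 0
  · exact Or.inl h0
  · exact Or.inr (mul_left_cancel₀ h0 (by rw [mul_one]; exact hsq.symm))

end Cfsg.Agent.SpFourRes.CTwo
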