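import Cfsg.Agent.Lib.SpFourRes.CTwo.Cross
import Cfsg.Agent.Lib.SpFourRes.CTwo.Five
import Cfsg.Agent.Lib.Mitchell.Residual.Core
import Cfsg.Agent.Lib.PrimeDim.Algebra
import Cfsg.Agent.Lib.Linear.PSLTwoSmall

/-!
`A₆` is no residual subgroup of `Sp₄(F)` all of whose involutions have type `c₂`, given the trace of
an element of order five in a group `SL₂(4)` (piece of helper80).

* `exists_nrm_eq_zero` : in an elementary abelian group of order nine some element has no fixed vector
* `exists_hom_five_six` : `A₅ → A₆` through a given element of order five and a class of order three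
* `not_psl_nine_of`, `not_psl_nine`
-/

set_option autoImplicit false
set_option linter.style.haveILetI false

namespace Cfsg.Agent.SpFourRes.CTwo

open Matrix Equiv.Perm

section nrm

set_option linter.unusedSectionVars false

variable {F : Type*} [Field F] [CharP F 2]

local notation "Mat" => Matrix (Fin 2 ⊕ Fin 2) (Fin 2 ⊕ Fin 2) F

/-- The norm map of an element of order three: its image is the fixed space. -/
def nrm {ι : Type*} [Fintype ι] [DecidableEq ι] (A : Matrix ι ι F) : Matrix ι ι F := 1 + A + A * A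

theorem mat_add_self (M : Mat) : M + M = 0 := Matrix.ext fun _ _ => CharTwo.add_self_eq_zero _

theorem nrm_mul {A : Mat} (hA : A * A * A = 1) : nrm A * A = nrm A := by
  simp only [nrm, add_mul, one_mul, hA]
  abel

theorem nrm_idem {A : Mat} (hA : A * A * A = 1) : nrm A * nrm A = nrm A := by
  conv_lhs => arg 2; unfold nrm
  rw [mul_add, mul_add, mul_one, ← mul_assoc, nrm_mul hA, nrm_mul hA, mat_add_self, zero_add]

theorem nrm_mulVec {A : Mat} {v : Vec F} (hv : A *ᵥ v = v) : nrm A *ᵥ v = v := by
  rw [nrm, add_mulVec, add_mulVec, one_mulVec, ← mulVec_mulVec, hv, hv]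
  exact funext fun i => by
    show v i + v i + v i = v i
    rw [CharTwo.add_self_eq_zero, zero_add]

theorem nrm_trace {A : Mat} (htr : (A * A).trace = A.trace) : (nrm A).trace = 0 := by
  rw [nrm, trace_add, trace_add, trace_one, htr, Fintype.card_sum, Fintype.card_fin, add_assoc,
    (CharP.cast_eq_zero_iff F 2 _).2 (by norm_num : (2 : ℕ) ∣ 2 + 2), zero_add,
    CharTwo.add_self_eq_zero]

theorem nrm_ne_one {A : Mat} (hA : A * A * A = 1) (hA1 : A ≠ 1) : nrm A ≠ 1 := fun h => hA1 (by
  have := nrm_mul hA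
  rwa [h, one_mul] at this)

/-- A nontrivial idempotent of trace zero has rank two. -/
theorem finrank_range {M : Mat} (hM : M * M = M) (htr : M.trace = 0) (h0 : M ≠ 0) (h1 : M ≠ 1) :
    Module.finrank F (LinearMap.range M.mulVecLin) = 2 := by
  have hidem : IsIdempotentElem M.mulVecLin := by
    show M.mulVecLin ∘ₗ M.mulVecLin = M.mulVecLin
    rw [← Matrix.mulVecLin_mul, hM]
  have h2 : (Module.finrank F (LinearMap.range M.mulVecLin) : F) = 0 := by
    rw [← (LinearMap.IsIdempotentElem.isProj_range _ hidem).trace, ← Matrix.toLin'_apply', Matrix.trace_toLin'_eq, htr]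
  rw [CharP.cast_eq_zero_iff F 2] at h2
  have hle : Module.finrank F (LinearMap.range M.mulVecLin) ≤ 4 := by
    refine (Submodule.finrank_le _).trans_eq ?_
    simp
  have hne : Module.finrank F (LinearMap.range M.mulVecLin) ≠ 0 := fun h => h0 (by
    rw [Submodule.finrank_eq_zero, LinearMap.range_eq_bot] at h
    exact Matrix.toLin'.injective (h.trans (map_zero Matrix.toLin').symm))
  have hne4 : Module.finrank F (LinearMap.range M.mulVecLin) ≠ 4 := fun h => h1 (by
    have htop : LinearMap.range M.mulVecLin = ⊤ := Submodule.eq_top_of_finrank_eq (by simpa using h)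
    refine Matrix.toLin'.injective (LinearMap.ext fun v => ?_)
    show M.mulVecLin v = Matrix.toLin' (1 : Mat) v
    rw [Matrix.toLin'_one]
    exact (LinearMap.IsIdempotentElem.mem_range_iff hidem).1 (htop ▸ Submodule.mem_top))
  obtain ⟨k, hk⟩ := h2
  omega

/-- Commuting idempotents of rank two, one dominating the other, coincide. -/
theorem eq_of_mul_eq {E M : Mat} (hM : M * M = M) (hEM : E * M = M) (hME : M * E = M)
    (hE2 : Module.finrank F (LinearMap.range E.mulVecLin) = 2)
    (hM2 : Module.finrank F (LinearMap.range M.mulVecLin) = 2) : E = M := by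
  have hle : LinearMap.range M.mulVecLin ≤ LinearMap.range E.mulVecLin := by
    rintro _ ⟨v, rfl⟩
    exact ⟨M *ᵥ v, by simp [mulVec_mulVec, hEM]⟩
  have heq := Submodule.eq_of_le_of_finrank_eq hle (hM2.trans hE2.symm)
  refine (Matrix.toLin'.injective (LinearMap.ext fun v => ?_) : M * E = E).symm.trans hME
  obtain ⟨w, hw⟩ : E *ᵥ v ∈ LinearMap.range M.mulVecLin := heq ▸ ⟨v, rfl⟩
  show (M * E) *ᵥ v = E *ᵥ v
  rw [← mulVec_mulVec, ← hw, Matrix.mulVecLin_apply, mulVec_mulVec, hM]

/-- In an elementary abelian group of order nine some element fixes no nonzero vector. -/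
theorem exists_nrm_eq_zero {A B : Mat} (hA : A * A * A = 1) (hB : B * B * B = 1) (hc : Commute A B)
    (hA1 : A ≠ 1) (hB1 : B ≠ 1) (hC1 : A * B ≠ 1) (hD1 : A * (B * B) ≠ 1)
    (htA : (A * A).trace = A.trace) (htB : (B * B).trace = B.trace)
    (htC : (A * B * (A * B)).trace = (A * B).trace)
    (htD : (A * (B * B) * (A * (B * B))).trace = (A * (B * B)).trace) :
    nrm A = 0 ∨ nrm B = 0 ∨ nrm (A * B) = 0 ∨ nrm (A * (B * B)) = 0 := by
  by_contra hcon
  push Not at hcon
  obtain ⟨hNa, hNb, hNc, hNd⟩ := hcon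
  have hcBB' : Commute A (B * B) := hc.mul_right hc
  have hC : A * B * (A * B) * (A * B) = 1 := by
    rw [(hc.symm).mul_mul_mul_comm, (hcBB'.symm).mul_mul_mul_comm, hA, hB, one_mul]
  have hcBB : Commute A (B * B) := hc.mul_right hc
  have hBB : B * B * (B * B) = B := by rw [← mul_assoc, hB, one_mul]
  have hD : A * (B * B) * (A * (B * B)) * (A * (B * B)) = 1 := by
    rw [(hcBB.symm).mul_mul_mul_comm, hBB, (hc.symm).mul_mul_mul_comm, hA, one_mul, ← mul_assoc, hB]
  set Na := nrm A with hNa'
  set Nb := nrm B with hNb'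
  set Nc := nrm (A * B) with hNc'
  set Nd := nrm (A * (B * B)) with hNd'
  have hCC : A * B * (A * B) = A * A * (B * B) := (hc.symm).mul_mul_mul_comm A B
  have hDD : A * (B * B) * (A * (B * B)) = A * A * B := by rw [(hcBB.symm).mul_mul_mul_comm, hBB]
  -- sum of the four
  have hsum : Na + Nb + Nc + Nd = 1 + Na * Nb := by
    simp only [hNa', hNb', hNc', hNd', nrm, hCC, hDD]
    simp only [add_mul, mul_add, one_mul, mul_one]
    have h4 : (1 : Mat) + 1 + 1 + 1 = 1 + 1 := by rw [mat_add_self, zero_add, mat_add_self]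
    have e1 : (1 : Mat) + A + A * A + (1 + B + B * B) + (1 + A * B + A * A * (B * B)) +
        (1 + A * (B * B) + A * A * B) = (1 + 1 + 1 + 1) +
        (A + A * A + B + B * B + A * B + A * A * (B * B) + A * (B * B) + A * A * B) := by abel
    rw [e1, h4]
    abel
  have hcN : Commute Na Nb :=
    ((Commute.one_left _).add_left ((((Commute.one_right A).add_right hc).add_right hcBB))).add_left
      ((((Commute.one_right (A * A)).add_right (hc.mul_left hc))).add_right (hcBB.mul_left hcBB))
  have hNaA : Na * A = Na := nrm_mul hA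
  have hNbB : Nb * B = Nb := nrm_mul hB
  have hac : Na * Nc = Na * Nb := by
    simp only [hNc', hNb', nrm, hCC, mul_add, mul_one]
    rw [← mul_assoc Na A B, hNaA, ← mul_assoc Na (A * A), ← mul_assoc Na A A, hNaA, hNaA]
  have had : Na * Nd = Na * Nb := by
    simp only [hNd', hNb', nrm, hDD, mul_add, mul_one]
    rw [← mul_assoc Na A (B * B), hNaA, ← mul_assoc Na (A * A), ← mul_assoc Na A A, hNaA, hNaA]
    abel
  have hbc : Nb * Nc = Nb * Na := by
    simp only [hNc', hNa', nrm, hCC, mul_add, mul_one]
    rw [hc.eq, ← mul_assoc Nb B A, hNbB, (hcBB.mul_left hcBB).eq, ← mul_assoc Nb (B * B),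
      ← mul_assoc Nb B B, hNbB, hNbB]
  have hNai : Na * Na = Na := nrm_idem hA
  have hNbi : Nb * Nb = Nb := nrm_idem hB
  have hMi : Na * Nb * (Na * Nb) = Na * Nb := by rw [(hcN.symm).mul_mul_mul_comm, hNai, hNbi]
  have r1 := finrank_range hNai (nrm_trace htA) hNa (nrm_ne_one hA hA1)
  have r2 := finrank_range hNbi (nrm_trace htB) hNb (nrm_ne_one hB hB1)
  by_cases hM0 : Na * Nb = 0
  · -- orthogonal: the two images span
    refine hNc ?_
    have hbot : LinearMap.range Na.mulVecLin ⊓ LinearMap.range Nb.mulVecLin = ⊥ := by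
      rw [eq_bot_iff]
      rintro _ ⟨⟨x, rfl⟩, ⟨y, hy⟩⟩
      rw [Submodule.mem_bot]
      rw [Matrix.mulVecLin_apply, Matrix.mulVecLin_apply] at hy
      have h1 : Na *ᵥ (Na *ᵥ x) = Na *ᵥ x := by rw [mulVec_mulVec, hNai]
      rw [Matrix.mulVecLin_apply, ← h1, ← hy, mulVec_mulVec, hM0, zero_mulVec]
    have htop : LinearMap.range Na.mulVecLin ⊔ LinearMap.range Nb.mulVecLin = ⊤ := by
      apply Submodule.eq_top_of_finrank_eq
      have h := Submodule.finrank_sup_add_finrank_inf_eq (LinearMap.range Na.mulVecLin)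
        (LinearMap.range Nb.mulVecLin)
      rw [hbot, finrank_bot, r1, r2] at h
      simp only [Module.finrank_fintype_fun_eq_card, Fintype.card_sum, Fintype.card_fin]
      omega
    have hca : Commute Na Nc := by
      show Commute (nrm A) (nrm (A * B))
      have hAC : Commute A (A * B) := (Commute.refl A).mul_right hc
      exact ((Commute.one_left _).add_left (((Commute.one_right A).add_right hAC).add_right
        (hAC.mul_right hAC))).add_left (((Commute.one_right (A * A)).add_right
          (hAC.mul_left hAC)).add_right ((hAC.mul_left hAC).mul_right (hAC.mul_left hAC)))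
    have hcb : Commute Nb Nc := by
      show Commute (nrm B) (nrm (A * B))
      have hBC : Commute B (A * B) := hc.symm.mul_right (Commute.refl B)
      exact ((Commute.one_left _).add_left (((Commute.one_right B).add_right hBC).add_right
        (hBC.mul_right hBC))).add_left (((Commute.one_right (B * B)).add_right
          (hBC.mul_left hBC)).add_right ((hBC.mul_left hBC).mul_right (hBC.mul_left hBC)))
    have hle : ⊤ ≤ LinearMap.ker Nc.mulVecLin := by
      rw [← htop, sup_le_iff]
      constructor <;> rintro _ ⟨x, rfl⟩ <;>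
        rw [LinearMap.mem_ker, Matrix.mulVecLin_apply, Matrix.mulVecLin_apply, mulVec_mulVec]
      · rw [← hca.eq, hac, hM0, zero_mulVec]
      · rw [← hcb.eq, hbc, ← hcN.eq, hM0, zero_mulVec]
    exact Matrix.toLin'.injective (LinearMap.ext fun v => by
      simpa using hle (Submodule.mem_top (x := v)))
  · -- all four coincide
    have htM : (Na * Nb).trace = 0 := by
      have h := congrArg Matrix.trace hsum
      rw [trace_add, trace_add, trace_add, trace_add, nrm_trace htA, nrm_trace htB, nrm_trace htC,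
        nrm_trace htD, trace_one] at h
      rw [Fintype.card_sum, Fintype.card_fin,
        (CharP.cast_eq_zero_iff F 2 _).2 (by norm_num : (2 : ℕ) ∣ 2 + 2), zero_add] at h
      simpa using h.symm
    have hM1 : Na * Nb ≠ 1 := fun h => nrm_ne_one hA hA1 (by
      have h' := congrArg (Na * ·) h
      simp only [← mul_assoc, hNai, mul_one] at h'
      rw [← hNa', ← h', h])
    have rM := finrank_range hMi htM hM0 hM1
    have ea : Na = Na * Nb := eq_of_mul_eq hMi (by rw [← mul_assoc, hNai])
      (by rw [hcN.eq, mul_assoc, hNai]) r1 rM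
    have eb : Nb = Na * Nb := eq_of_mul_eq hMi (by rw [hcN.eq, ← mul_assoc, hNbi])
      (by rw [mul_assoc, hNbi]) r2 rM
    have ec : Nc = Na * Nb := by
      have rc := finrank_range (nrm_idem hC) (nrm_trace htC) hNc (nrm_ne_one hC hC1)
      refine eq_of_mul_eq hMi ?_ ?_ rc rM
      · have hcc : Commute Nc (Na * Nb) := by
          rw [← ea]
          have hAC : Commute (A * B) A := (Commute.refl A).mul_left hc.symm
          exact ((Commute.one_left _).add_left (((Commute.one_right _).add_right hAC).add_right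
            (hAC.mul_right hAC))).add_left (((Commute.one_right _).add_right
              (hAC.mul_left hAC)).add_right ((hAC.mul_left hAC).mul_right (hAC.mul_left hAC)))
        rw [hcc.eq, ← ea, hac, ← ea]
      · rw [← ea, hac, ← ea]
    have ed : Nd = Na * Nb := by
      have rd := finrank_range (nrm_idem hD) (nrm_trace htD) hNd (nrm_ne_one hD hD1)
      refine eq_of_mul_eq hMi ?_ ?_ rd rM
      · have hcc : Commute Nd (Na * Nb) := by
          rw [← ea]
          have hAC : Commute (A * (B * B)) A := (Commute.refl A).mul_left hcBB.symm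
          exact ((Commute.one_left _).add_left (((Commute.one_right _).add_right hAC).add_right
            (hAC.mul_right hAC))).add_left (((Commute.one_right _).add_right
              (hAC.mul_left hAC)).add_right ((hAC.mul_left hAC).mul_right (hAC.mul_left hAC)))
        rw [hcc.eq, ← ea, had, ← ea]
      · rw [← ea, had, ← ea]
    refine nrm_ne_one hA hA1 ?_
    rw [ec, ed, ← ea] at hsum
    rw [← ea] at eb
    rw [eb, mat_add_self, zero_add, mat_add_self] at hsum
    rw [← hNa']
    have h' := congrArg (1 + ·) hsum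
    simp only [add_zero, ← add_assoc, mat_add_self, zero_add] at h'
    exact h'.symm

end nrm

section perm

/-- Orders in `A₆`. -/
theorem pow_cases_six : ∀ g : Equiv.Perm (Fin 6), sign g = 1 → g ^ 4 = 1 ∨ g ^ 3 = 1 ∨ g ^ 5 = 1 := by
  decide +kernel

theorem cycleType_five {g : Equiv.Perm (Fin 6)} (h5 : g ^ 5 = 1) (h1 : g ≠ 1) : g.cycleType = {5} := by
  have : Fact (Nat.Prime 5) := ⟨by norm_num⟩
  have h := cycleType_of_pow_prime_eq_one h5
  have hle := sum_cycleType_le g
  rw [h, Multiset.sum_replicate, smul_eq_mul, Fintype.card_fin] at hle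
  have hne : g.cycleType.card ≠ 0 := fun h0 => h1 (cycleType_eq_zero.1 (Multiset.card_eq_zero.1 h0))
  rw [h, show g.cycleType.card = 1 by omega]
  rfl

theorem cycleType_three {g h : Equiv.Perm (Fin 6)} (hg : g ^ 3 = 1) (hh : h ^ 3 = 1)
    (hs : g.support.card = h.support.card) : g.cycleType = h.cycleType := by
  have : Fact (Nat.Prime 3) := ⟨by norm_num⟩
  have h1 := cycleType_of_pow_prime_eq_one hg
  have h2 := cycleType_of_pow_prime_eq_one hh
  rw [← sum_cycleType, ← sum_cycleType, h1, h2, Multiset.sum_replicate, Multiset.sum_replicate,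
    smul_eq_mul, smul_eq_mul] at hs
  rw [h1, h2, show g.cycleType.card = h.cycleType.card by omega]

/-- Elements of equal cycle type, one commuting with an odd permutation, are conjugate in `A₆`. -/
theorem alt_conj {g h : Equiv.Perm (Fin 6)} (hct : g.cycleType = h.cycleType)
    (hodd : ∃ s : Equiv.Perm (Fin 6), sign s = -1 ∧ s * h = h * s) :
    ∃ c : Equiv.Perm (Fin 6), sign c = 1 ∧ c * h * c⁻¹ = g := by
  obtain ⟨c, hc⟩ := isConj_iff.1 (isConj_iff_cycleType_eq.2 hct.symm)
  rcases Int.units_eq_one_or (sign c) with hs | hs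
  · exact ⟨c, hs, hc⟩
  · obtain ⟨s, hs1, hs2⟩ := hodd
    refine ⟨c * s, by rw [map_mul, hs, hs1]; rfl, ?_⟩
    rw [_root_.mul_inv_rev, mul_assoc c s h, hs2, ← hc]
    group

theorem fact_five : Fact (Nat.Prime 5) := ⟨by norm_num⟩

attribute [local instance] fact_five

/-- Homomorphisms `A₅ → A₆` with both classes of elements of order three in the image. -/
theorem exists_hom_class (k : ℕ) (hk : k = 3 ∨ k = 6) :
    ∃ φ : alternatingGroup (Fin 5) →* Equiv.Perm (Fin 6), Function.Injective φ ∧
      (∀ a, sign (φ a) = 1) ∧ ∃ y, y ^ 3 = 1 ∧ (φ y).support.card = k := by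
  let y : alternatingGroup (Fin 5) :=
    ⟨Equiv.swap 0 1 * Equiv.swap 1 2, mem_alternatingGroup.2 (by decide)⟩
  have hy3 : y ^ 3 = 1 := by decide
  rcases hk with rfl | rfl
  · let f : Fin 5 ≃ {x : Fin 6 // x ≠ Fin.last 5} := finSuccAboveEquiv (Fin.last 5)
    refine ⟨(extendDomainHom f).comp (Subgroup.subtype _),
      (extendDomainHom_injective f).comp (Subgroup.subtype_injective _), fun a => ?_, y, hy3, ?_⟩
    · show sign ((a : Equiv.Perm (Fin 5)).extendDomain f) = 1
      rw [sign_extendDomain]
      exact mem_alternatingGroup.1 a.2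
    · show ((y : Equiv.Perm (Fin 5)).extendDomain f).support.card = 3
      rw [card_support_extend_domain]
      decide
  · obtain ⟨e⟩ := Linear.nonempty_pslTwo_five (F := ZMod 5) (ZMod.card 5)
    let π := Linear.projLineEquiv (ZMod 5) (n := 6) (by rw [Nat.card_zmod])
    let φ : alternatingGroup (Fin 5) →* Equiv.Perm (Fin 6) :=
      (π.permCongrHom.toMonoidHom.comp Projectivization.PSLAction.toPermHom).comp e.symm.toMonoidHom
    have hφ : Function.Injective φ :=
      (π.permCongrHom.injective.comp Matrix.ProjectiveSpecialLinearGroup.toPermHom_injective).comp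
        e.symm.injective
    refine ⟨φ, hφ, fun a => ?_, y, hy3, ?_⟩
    · haveI : IsSimpleGroup (alternatingGroup (Fin 5)) := alternatingGroup.isSimpleGroup (by simp)
      rcases (sign.comp φ).normal_ker.eq_bot_or_eq_top with h | h
      · exfalso
        have hinj := (MonoidHom.ker_eq_bot_iff _).1 h
        have := Nat.card_le_card_of_injective _ hinj
        rw [nat_card_alternatingGroup, Nat.card_fin, Nat.card_eq_fintype_card,
          Fintype.card_units_int] at this
        norm_num [Nat.factorial] at this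
      · have : a ∈ (sign.comp φ).ker := h ▸ Subgroup.mem_top a
        exact this
    · have huniv : (φ y).support = Finset.univ := by
        refine Finset.eq_univ_of_forall fun i => mem_support.2 fun hfix => ?_
        have hz : e.symm y • π.symm i = π.symm i := π.injective (by
          rw [Equiv.apply_symm_apply]; exact hfix)
        have hcard : Nat.card (MulAction.stabilizer
            (Matrix.ProjectiveSpecialLinearGroup (Fin 2) (ZMod 5)) (π.symm i)) * 6 = 60 := by
          have h6 := MulAction.index_stabilizer_of_transitive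
            (G := Matrix.ProjectiveSpecialLinearGroup (Fin 2) (ZMod 5)) (π.symm i)
          rw [Linear.card_projLine, Nat.card_zmod] at h6
          have h := Subgroup.card_mul_index (MulAction.stabilizer
            (Matrix.ProjectiveSpecialLinearGroup (Fin 2) (ZMod 5)) (π.symm i))
          rw [h6, Cfsg.Agent.GLOrder.card_PSL_two, Nat.card_zmod] at h
          rw [h]
          decide
        have hord : orderOf (e.symm y) = 3 := by
          have : Fact (Nat.Prime 3) := ⟨by norm_num⟩
          refine orderOf_eq_prime (by rw [← map_pow, hy3, map_one]) fun h => ?_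
          rw [MulEquiv.map_eq_one_iff] at h
          exact absurd h (by decide)
        have hdvd := Subgroup.orderOf_dvd_natCard _ (show e.symm y ∈ MulAction.stabilizer
          (Matrix.ProjectiveSpecialLinearGroup (Fin 2) (ZMod 5)) (π.symm i) from hz)
        rw [hord] at hdvd
        obtain ⟨d, hd⟩ := hdvd
        omega
      rw [huniv]
      rfl

/-- An `A₅` through a given element of order five and a given class of order three. -/
theorem exists_hom_five_six {x h : alternatingGroup (Fin 6)} (hx : x ^ 5 = 1) (hx1 : x ≠ 1)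
    (hh : h ^ 3 = 1)
    (hhs : (h : Equiv.Perm (Fin 6)).support.card = 3 ∨ (h : Equiv.Perm (Fin 6)).support.card = 6)
    (hodd : ∃ s : Equiv.Perm (Fin 6), sign s = -1 ∧ s * h.1 = h.1 * s) :
    ∃ φ : alternatingGroup (Fin 5) →* alternatingGroup (Fin 6), Function.Injective φ ∧
      (∃ t, φ t = x) ∧ ∃ y, y ^ 3 = 1 ∧ ∃ c, c * h * c⁻¹ = φ y := by
  obtain ⟨φ, hφ, hsg, y, hy3, hys⟩ := exists_hom_class _ hhs
  let t : alternatingGroup (Fin 5) :=
    ⟨Equiv.swap 0 1 * Equiv.swap 1 2 * Equiv.swap 2 3 * Equiv.swap 3 4, mem_alternatingGroup.2 (by decide)⟩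
  have ht : t ^ 5 = 1 := by decide
  have ht1 : φ t ≠ 1 := fun h0 => absurd (hφ (h0.trans (map_one φ).symm)) (by decide)
  have hxv : x.1 ^ 5 = 1 := congrArg Subtype.val hx
  obtain ⟨τ, hτ⟩ := isConj_iff.1 (isConj_iff_cycleType_eq.2
    ((cycleType_five (g := φ t) (by rw [← map_pow, ht, map_one]) ht1).trans
      (cycleType_five hxv fun h0 => hx1 (Subtype.ext h0)).symm))
  let ψ : alternatingGroup (Fin 5) →* alternatingGroup (Fin 6) :=
    ((MulAut.conj τ).toMonoidHom.comp φ).codRestrict _ fun a => by
      rw [mem_alternatingGroup]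
      show sign (τ * φ a * τ⁻¹) = 1
      rw [map_mul, map_mul, hsg, map_inv, mul_one, mul_inv_cancel]
  have hψ : ∀ a, (ψ a).1 = τ * φ a * τ⁻¹ := fun _ => rfl
  refine ⟨ψ, fun a b hab => hφ ?_, ⟨t, Subtype.ext ((hψ t).trans hτ)⟩, y, hy3, ?_⟩
  · have := congrArg Subtype.val hab
    rw [hψ, hψ] at this
    exact mul_left_cancel (mul_right_cancel this)
  · have hy' : (ψ y).1 ^ 3 = 1 := by
      rw [← SubmonoidClass.coe_pow, ← map_pow, hy3, map_one]
      rfl
    have hs' : (ψ y).1.support.card = h.1.support.card := by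
      rw [hψ, card_support_conj, hys]
    obtain ⟨c, hc, hch⟩ := alt_conj (cycleType_three hy' (congrArg Subtype.val hh) hs') hodd
    exact ⟨⟨c, mem_alternatingGroup.2 hc⟩, Subtype.ext hch⟩

end perm

variable {F : Type*} [Field F] [CharP F 2]

/-- `A₆` is no residual group, given the traces of elements of order five in `SL₂(4)`. -/
theorem not_psl_nine_of [Fintype F] (hq : 4 ≤ Fintype.card F)
    {P : Subgroup (GL (Fin 2 ⊕ Fin 2) F)} (C : Core P) (h : AllCTwo P)
    (hfive : ∀ {K : Type} [Field K] [Fintype K] [CharP K 2], Fintype.card K = 4 →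
      ∀ ρ : Matrix.SpecialLinearGroup (Fin 2) K →* GL (Fin 2 ⊕ Fin 2) F, Function.Injective ρ →
      (∀ x, ρ x ∈ Cfsg.spGL 2 F) →
      (∀ x, x * x = 1 → x ≠ 1 →
        (∃ v : Vec F, sf ((ρ x).1 *ᵥ v) v ≠ 0) ∧ ¬ ∃ u : Vec F, IsTvec (ρ x) u) →
      (∃ x, x ^ 3 = 1 ∧ ∀ v : Vec F, (ρ x).1 *ᵥ v = v → v = 0) →
      ∀ x, x ^ 5 = 1 → x ≠ 1 → (ρ x).1.trace ^ 2 = (ρ x).1.trace) :
    IsEmpty (alternatingGroup (Fin 6) ≃* ↥P) := by
  classical
  refine ⟨fun e => ?_⟩
  let f : alternatingGroup (Fin 6) →* GL (Fin 2 ⊕ Fin 2) F := P.subtype.comp e.toMonoidHom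
  have hf : Function.Injective f := Subtype.val_injective.comp e.injective
  have hsp : ∀ g, f g ∈ Cfsg.spGL 2 F := fun g => C.le_sp (e g).2
  have hinv : ∀ g, g ^ 3 = 1 → ((f g).1 * (f g).1).trace = (f g).1.trace := fun g hg => by
    have h2 : f g * f g = (f g)⁻¹ :=
      eq_inv_of_mul_eq_one_left (by rw [← map_mul, ← map_mul, ← pow_three', hg, map_one])
    rw [← Units.val_mul, h2, Matrix.trace_eq_neg_charpoly_coeff, Matrix.trace_eq_neg_charpoly_coeff,
      charpoly_inv (hsp g)]
  have hcube : ∀ g, g ^ 3 = 1 → (f g).1 * (f g).1 * (f g).1 = 1 := fun g hg => by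
    rw [← Units.val_mul, ← Units.val_mul, ← map_mul, ← map_mul, ← pow_three', hg, map_one, Units.val_one]
  -- an element of order three without fixed vector
  obtain ⟨h₀, hh3, hhs, hodd, hfpf⟩ : ∃ g : alternatingGroup (Fin 6), g ^ 3 = 1 ∧
      ((g : Equiv.Perm (Fin 6)).support.card = 3 ∨ (g : Equiv.Perm (Fin 6)).support.card = 6) ∧
      (∃ s : Equiv.Perm (Fin 6), sign s = -1 ∧ s * g.1 = g.1 * s) ∧
      ∀ v : Vec F, (f g).1 *ᵥ v = v → v = 0 := by
    let a : alternatingGroup (Fin 6) :=
      ⟨Equiv.swap 0 1 * Equiv.swap 1 2, mem_alternatingGroup.2 (by decide)⟩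
    let b : alternatingGroup (Fin 6) :=
      ⟨Equiv.swap 3 4 * Equiv.swap 4 5, mem_alternatingGroup.2 (by decide)⟩
    have hne : ∀ g : alternatingGroup (Fin 6), g ≠ 1 → (f g).1 ≠ 1 := fun g hg h1 =>
      hg (hf ((Units.ext h1).trans (map_one f).symm))
    have key := exists_nrm_eq_zero (A := (f a).1) (B := (f b).1) (hcube a (by decide))
      (hcube b (by decide))
      (by rw [Commute, SemiconjBy, ← Units.val_mul, ← Units.val_mul, ← map_mul, ← map_mul,
        show a * b = b * a by decide])
      (hne a (by decide)) (hne b (by decide))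
      (by rw [← Units.val_mul, ← map_mul]; exact hne _ (by decide))
      (by rw [← Units.val_mul, ← map_mul, ← Units.val_mul, ← map_mul]; exact hne _ (by decide))
      (hinv a (by decide)) (hinv b (by decide))
      (by rw [← Units.val_mul (f a), ← map_mul]; exact hinv _ (by decide))
      (by rw [← Units.val_mul (f b), ← map_mul, ← Units.val_mul (f a), ← map_mul]
          exact hinv _ (by decide))
    have hfix : ∀ g : alternatingGroup (Fin 6), nrm (f g).1 = 0 →
        ∀ v : Vec F, (f g).1 *ᵥ v = v → v = 0 := fun g hg v hv => by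
      rw [← nrm_mulVec hv, hg, zero_mulVec]
    rcases key with k | k | k | k
    · exact ⟨a, by decide, by decide, ⟨Equiv.swap 3 4, by decide, by decide⟩, hfix a k⟩
    · exact ⟨b, by decide, by decide, ⟨Equiv.swap 0 1, by decide, by decide⟩, hfix b k⟩
    · rw [← Units.val_mul, ← map_mul] at k
      exact ⟨a * b, by decide, by decide,
        ⟨Equiv.swap 0 3 * Equiv.swap 1 4 * Equiv.swap 2 5, by decide, by decide⟩, hfix _ k⟩
    · rw [← Units.val_mul, ← map_mul, ← Units.val_mul, ← map_mul] at k
      exact ⟨a * (b * b), by decide, by decide,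
        ⟨Equiv.swap 0 3 * Equiv.swap 1 5 * Equiv.swap 2 4, by decide, by decide⟩, hfix _ k⟩
  -- the order five traces
  have h5 : ∀ g, g ^ 5 = 1 → g ≠ 1 → (f g).1.trace ^ 2 = (f g).1.trace := by
    intro g hg hg1
    obtain ⟨φ, hφ, ⟨t, ht⟩, y, hy3, c, hc⟩ := exists_hom_five_six hg hg1 hh3 hhs hodd
    haveI : Fintype (GaloisField 2 2) := Fintype.ofFinite _
    have hK : Nat.card (GaloisField 2 2) = 4 := by rw [GaloisField.card 2 2 two_ne_zero]; norm_num
    obtain ⟨e₄⟩ := Linear.nonempty_pslTwo_four hK
    let S := Matrix.SpecialLinearGroup (Fin 2) (GaloisField 2 2)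
    have hbij : Function.Bijective (QuotientGroup.mk' (Subgroup.center S)) :=
      (Nat.bijective_iff_surjective_and_card _).2 ⟨QuotientGroup.mk'_surjective _, by
        rw [Cfsg.Agent.GLOrder.card_SL_two, show Nat.card (S ⧸ Subgroup.center S) =
          Nat.card (Matrix.ProjectiveSpecialLinearGroup (Fin 2) (GaloisField 2 2)) from rfl,
          Cfsg.Agent.GLOrder.card_PSL_two, hK]
        decide⟩
    let s : S ≃* alternatingGroup (Fin 5) := (MulEquiv.ofBijective _ hbij).trans e₄
    let ρ : S →* GL (Fin 2 ⊕ Fin 2) F := f.comp (φ.comp s.toMonoidHom)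
    have hρ : Function.Injective ρ := hf.comp (hφ.comp s.injective)
    have hfp : ∀ v : Vec F, (f (c * h₀ * c⁻¹)).1 *ᵥ v = v → v = 0 := fun v hv => by
      rw [map_mul, map_mul, map_inv, Units.val_mul, Units.val_mul, ← mulVec_mulVec, ← mulVec_mulVec] at hv
      have h1 := congrArg ((f c)⁻¹.1 *ᵥ ·) hv
      simp only [mulVec_mulVec, ← mul_assoc, Units.inv_mul, one_mul] at h1
      rw [← mulVec_mulVec] at h1
      have h2 := congrArg ((f c).1 *ᵥ ·) (hfpf _ h1)
      simpa [mulVec_mulVec] using h2
    have h5' := hfive (K := GaloisField 2 2) (by rw [← Nat.card_eq_fintype_card, hK]) ρ hρ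
      (fun x => hsp _)
      (fun x hx hx1 => h _ (e (φ (s x))).2 (by show ρ x * ρ x = 1; rw [← map_mul, hx, map_one])
        fun h0 => hx1 (hρ (h0.trans (map_one ρ).symm)))
      ⟨s.symm y, by rw [← map_pow, hy3, map_one], by
        show ∀ v : Vec F, (f (φ (s (s.symm y)))).1 *ᵥ v = v → v = 0
        rw [MulEquiv.apply_symm_apply, ← hc]
        exact hfp⟩
      (s.symm t) (hρ (by
        rw [map_one]; show ρ (s.symm t ^ 5) = 1
        rw [map_pow]; show f (φ (s (s.symm t))) ^ 5 = 1
        rw [MulEquiv.apply_symm_apply, ht, ← map_pow, hg, map_one]))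
      (fun h0 => hg1 (by
        have h1 : φ (s (s.symm t)) = 1 := by rw [h0, map_one, map_one]
        rwa [MulEquiv.apply_symm_apply, ht] at h1))
    have he : ρ (s.symm t) = f g := by
      show f (φ (s (s.symm t))) = f g
      rw [MulEquiv.apply_symm_apply, ht]
    rwa [he] at h5'
  -- all traces lie in the prime field
  have htr : ∀ g, (f g).1.trace ^ 2 = (f g).1.trace := by
    intro g
    rcases pow_cases_six g.1 (mem_alternatingGroup.1 g.2) with hg | hg | hg
    · have hg' : g ^ 4 = 1 := Subtype.ext hg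
      have h0 : (f g).1.trace = 0 := by
        have h1 := Mitchell.Residual.trace_pow_char_pow 2 (f g).1 2
        rw [show (2 ^ 2 : ℕ) = 4 from rfl, ← Units.val_pow_eq_pow_val, ← map_pow, hg', map_one,
          Units.val_one, Matrix.trace_one, Fintype.card_sum, Fintype.card_fin] at h1
        have h2 : (((2 + 2 : ℕ)) : F) = 0 := by
          rw [CharP.cast_eq_zero_iff F 2]; norm_num
        rw [h2] at h1
        exact pow_eq_zero_iff (by norm_num) |>.1 h1.symm
      rw [h0, zero_pow (by norm_num)]
    · rw [← Mitchell.Residual.trace_pow_char 2, sq]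
      exact hinv g (Subtype.ext hg)
    · by_cases hg1 : g = 1
      · subst hg1
        rw [map_one, Units.val_one, Matrix.trace_one, Fintype.card_sum, Fintype.card_fin,
          (CharP.cast_eq_zero_iff F 2 _).2 (by norm_num : (2 : ℕ) ∣ 2 + 2), zero_pow (by norm_num)]
      · exact h5 g (Subtype.ext hg) hg1
  let F₀ : Subfield F := RingHom.eqLocusField (frobenius F 2) (RingHom.id F)
  have hne : F₀ ≠ ⊤ := by
    intro htop
    have hall : ∀ x : F, x ∈ ({0, 1} : Finset F) := fun x => by
      have hx : x ^ 2 = x := (htop ▸ Subfield.mem_top x : x ∈ F₀)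
      rcases eq_or_ne x 0 with rfl | hx0
      · simp
      · simp [mul_left_cancel₀ hx0 (show x * x = x * 1 by rw [← sq, hx, mul_one])]
    have h1 : Fintype.card F ≤ 2 :=
      (Finset.card_le_card (s := Finset.univ) (t := ({0, 1} : Finset F)) fun x _ => hall x).trans
        Finset.card_le_two
    omega
  refine C.no_subfield F₀ hne (PrimeDim.realisableOver_of_trace
    (PrimeDim.span_eq_top C.abs_irr) C.abs_irr.2 F₀ fun x hx => ?_)
  obtain ⟨g, hg⟩ := e.surjective ⟨x, hx⟩
  have hxg : f g = x := congrArg Subtype.val hg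
  rw [← hxg]
  exact htr g

open Cfsg.Agent.SL2Module in
/-- `A₆` is no residual group. -/
theorem not_psl_nine [Fintype F] (hq : 4 ≤ Fintype.card F)
    {P : Subgroup (GL (Fin 2 ⊕ Fin 2) F)} (C : Core P) (h : AllCTwo P) :
    IsEmpty (alternatingGroup (Fin 6) ≃* ↥P) := by
  refine not_psl_nine_of hq C h fun {K} _ _ _ _ ρ _ hsp hinv hthree g hg _ => ?_
  obtain ⟨g₃, hg₃, hfix⟩ := hthree
  have R : Rep ρ := ⟨hsp, fun a ha => hinv (up a) (up_sq a) fun h1 =>
    ha (by simpa [up_val] using congrArg (fun x : Matrix.SpecialLinearGroup (Fin 2) K => x.1 0 1) h1)⟩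
  rcases R.five_trace hg₃ hfix hg with h1 | h1 <;> rw [h1] <;> simp

end Cfsg.Agent.SpFourRes.CTwo
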