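import Cfsg.Agent.Lib.SpFourRes.Basic
import Cfsg.Agent.Lib.Suzuki.LieModel
import Cfsg.Agent.Lib.Suzuki.FieldMap
import Cfsg.Agent.Lib.Suzuki.Tori
import Cfsg.Agent.Lib.Mitchell.Residual.Core
import Cfsg.Agent.Lib.GLOrder.Symplectic
import Cfsg.Agent.Lib.Linear.Symplectic

/-!
Suzuki groups in residual subgroups of `Sp₄(F)`: the field.

* `sz_key` : every element of `Sz(q)` has fourth power one or is conjugate to its `q`-th power
* `suzuki_field` : a residual Suzuki group is defined over the whole field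
-/

set_option autoImplicit false
set_option linter.style.haveILetI false

namespace Cfsg.Agent.SpFourRes.CTwo

open Matrix

/-- Every element of `Sz(q)` has fourth power one or is conjugate to its `q`-th power. -/
theorem sz_key {K : Type*} [Field K] [Fintype K] {m : ℕ} (hm : 1 ≤ m)
    (hK : Fintype.card K = 2 ^ (2 * m + 1)) (g : Cfsg.Sz K m) :
    g ^ 4 = 1 ∨ ∃ n : Cfsg.Sz K m, n * g * n⁻¹ = g ^ (2 ^ (2 * m + 1)) := by
  classical
  haveI := Suzuki.charTwo hK
  by_cases hg1 : g = 1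
  · left; rw [hg1, one_pow]
  by_cases hf : Suzuki.FPF g
  swap
  · unfold Suzuki.FPF at hf
    push Not at hf
    obtain ⟨q, hq, hfix⟩ := hf
    rcases Suzuki.fixer_cases hm hK hg1 hq hfix with ⟨s, a, b, -, -, rfl⟩ | ⟨s, k, -, rfl⟩
    · left
      have h2 : Suzuki.tSz hK a b * Suzuki.tSz hK a b = Suzuki.tSz hK 0 (Suzuki.th m a * a) := by
        rw [Suzuki.tSz_mul]
        congr 1 <;> grind
      have h4 : Suzuki.tSz hK a b ^ 4 = 1 := by
        show Suzuki.tSz hK a b ^ (2 * 2) = 1
        rw [pow_mul, sq (Suzuki.tSz hK a b), h2, sq, Suzuki.tSz_mul,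
          Suzuki.tSz_eq_one_iff]
        constructor <;> grind [Suzuki.th]
      rw [conj_pow, h4, mul_one, mul_inv_cancel]
    · right
      refine ⟨1, ?_⟩
      have hk : k ^ (2 ^ (2 * m + 1)) = k := by
        rw [← hK]; exact Units.ext (by rw [Units.val_pow_eq_pow_val, FiniteField.pow_card])
      have hd : ∀ n : ℕ, Suzuki.dSz hK k ^ n = Suzuki.dSz hK (k ^ n) := by
        intro n
        induction n with
        | zero => rw [pow_zero, pow_zero, Suzuki.dSz_one]
        | succ n ih => rw [pow_succ, ih, Suzuki.dSz_mul, ← pow_succ]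
      rw [one_mul, inv_one, mul_one, conj_pow, hd, hk]
  right
  set C := Subgroup.centralizer ({g} : Set (Cfsg.Sz K m)) with hC
  set N := Subgroup.normalizer (C : Set (Cfsg.Sz K m)) with hN
  have halg : ∀ n : N, Suzuki.mat ((n : Cfsg.Sz K m) * g * (n : Cfsg.Sz K m)⁻¹) ∈
      Suzuki.commAlg g := fun n => by
    have := (Subgroup.mem_normalizer_iff.mp n.2 g).mp (Subgroup.mem_centralizer_singleton_iff.mpr rfl)
    rw [Subalgebra.mem_centralizer_iff]
    intro y hy
    rw [Set.mem_singleton_iff] at hy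
    rw [hy, ← Suzuki.mat_mul, ← Suzuki.mat_mul, Subgroup.mem_centralizer_singleton_iff.mp this]
  have hself : Suzuki.mat g ∈ Suzuki.commAlg g := by
    rw [Subalgebra.mem_centralizer_iff]
    intro y hy
    rw [Set.mem_singleton_iff] at hy
    rw [hy]
  have hfield := Suzuki.commAlg_isField hm hK hf
  letI : CommRing (Suzuki.commAlg g) :=
    { (inferInstance : Ring (Suzuki.commAlg g)) with mul_comm := hfield.mul_comm }
  let x₀ : Suzuki.commAlg g := ⟨Suzuki.mat g, hself⟩
  let φ : N → Suzuki.commAlg g := fun n => ⟨_, halg n⟩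
  have hroot : ∀ n : N, Polynomial.aeval (φ n) (Suzuki.mat g).charpoly = 0 := by
    intro n
    apply Subtype.ext
    have h1 := Polynomial.aeval_algHom_apply (Suzuki.commAlg g).val (φ n) (Suzuki.mat g).charpoly
    refine h1.symm.trans ?_
    show Polynomial.aeval (Suzuki.mat ((n : Cfsg.Sz K m) * g * (n : Cfsg.Sz K m)⁻¹))
      (Suzuki.mat g).charpoly = 0
    rw [Suzuki.mat_mul, Suzuki.mat_mul]
    exact Suzuki.aeval_conj_charpoly (by rw [← Suzuki.mat_mul, mul_inv_cancel, Suzuki.mat_one])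
      (by rw [← Suzuki.mat_mul, inv_mul_cancel, Suzuki.mat_one])
  have hrootq : Polynomial.aeval (x₀ ^ Fintype.card K) (Suzuki.mat g).charpoly = 0 := by
    have h0 : Polynomial.aeval x₀ (Suzuki.mat g).charpoly = 0 := by
      apply Subtype.ext
      refine (Polynomial.aeval_algHom_apply (Suzuki.commAlg g).val x₀ _).symm.trans ?_
      exact Matrix.aeval_self_charpoly _
    have h1 := Polynomial.aeval_algHom_apply
      (FiniteField.frobeniusAlgHom K (Suzuki.commAlg g)) x₀ (Suzuki.mat g).charpoly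
    rw [h0, map_zero] at h1
    exact h1
  by_contra hcon
  push Not at hcon
  have hfib : ∀ n n' : N, φ n = φ n' → (n : Cfsg.Sz K m)⁻¹ * n' ∈ C := by
    intro n n' h
    have e : (n : Cfsg.Sz K m) * g * (n : Cfsg.Sz K m)⁻¹ = (n' : Cfsg.Sz K m) * g * (n' : Cfsg.Sz K m)⁻¹ :=
      Suzuki.mat_injective (congrArg (fun z : Suzuki.commAlg g => (z : Matrix (Fin 4) (Fin 4) K)) h)
    rw [hC, Subgroup.mem_centralizer_singleton_iff]
    calc (n : Cfsg.Sz K m)⁻¹ * n' * g =
        (n : Cfsg.Sz K m)⁻¹ * (n' * g * (n' : Cfsg.Sz K m)⁻¹) * n' := by group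
      _ = g * ((n : Cfsg.Sz K m)⁻¹ * n') := by rw [← e]; group
  let f : Option (N ⧸ C.subgroupOf N) → Suzuki.commAlg g := fun o =>
    o.elim (x₀ ^ Fintype.card K) (fun x => φ x.out)
  have hne : ∀ x : N ⧸ C.subgroupOf N, φ x.out ≠ x₀ ^ Fintype.card K := fun x h => by
    refine hcon (x.out : Cfsg.Sz K m) (Suzuki.mat_injective ?_)
    rw [Suzuki.mat_pow, ← hK]
    exact (congrArg (fun z : Suzuki.commAlg g => (z : Matrix (Fin 4) (Fin 4) K)) h).trans
      (SubmonoidClass.coe_pow _ _)
  have hfinj : Function.Injective f := by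
    rintro (_ | x) (_ | y) h
    · rfl
    · exact absurd h.symm (hne y)
    · exact absurd h (hne x)
    · congr 1
      rw [← QuotientGroup.out_eq' x, ← QuotientGroup.out_eq' y, QuotientGroup.eq,
        Subgroup.mem_subgroupOf]
      exact hfib _ _ h
  have hle := Suzuki.natCard_le_natDegree hfield (Matrix.charpoly_monic (Suzuki.mat g)) f hfinj
    (fun o => by
      rcases o with _ | x
      · exact hrootq
      · exact hroot _)
  rw [Matrix.charpoly_natDegree_eq_dim, Fintype.card_fin, Finite.card_option] at hle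
  have hcard := (Suzuki.torus_data hm hK hf).2
  rw [Subgroup.card_eq_card_quotient_mul_card_subgroup (C.subgroupOf N),
    Nat.card_congr (Subgroup.subgroupOfEquivOfLe (Subgroup.le_normalizer (H := C))).toEquiv] at hcard
  have h4 := Nat.eq_of_mul_eq_mul_right Nat.card_pos hcard
  omega

variable {F : Type*} [Field F] [CharP F 2]

theorem eq_of_dvd_of_le {e n : ℕ} (hn : Odd n) (he : e ∣ n) (h : 2 * n ≤ 4 * e) : e = n := by
  obtain ⟨d, rfl⟩ := he
  have hd : Odd d := (Nat.odd_mul.1 hn).2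
  rcases Nat.eq_zero_or_pos e with rfl | hpos
  · simp at hn
  have hd2 : d ≤ 2 := by
    by_contra hlt
    have := Nat.mul_le_mul_left e (show 3 ≤ d by omega)
    omega
  obtain ⟨c, rfl⟩ := hd
  have : c = 0 := by omega
  subst this
  simp

/-- A residual Suzuki group is a Suzuki group over the whole field. -/
theorem suzuki_field [Fintype F] {P : Subgroup (GL (Fin 2 ⊕ Fin 2) F)} (C : Core P)
    (hP : Cfsg.Lie.IsoSuzuki ↥P) :
    ∃ m, 1 ≤ m ∧ Fintype.card F = 2 ^ (2 * m + 1) ∧
      Nonempty (↥P ≃* Cfsg.Lie.Sz F (2 ^ (m + 1))) := by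
  classical
  obtain ⟨K, iK, iKf, m, hm, hK, ⟨e₀⟩⟩ := hP
  let e : ↥P ≃* Cfsg.Sz K m := e₀.trans (Suzuki.lieEquiv hm hK).symm
  set n := 2 * m + 1 with hn
  -- all traces are fixed by `x ↦ x ^ 2 ^ n`
  have htr : ∀ x ∈ P, x.1.trace ^ 2 ^ n = x.1.trace := by
    intro x hx
    rcases sz_key hm hK (e ⟨x, hx⟩) with h | ⟨y, hy⟩
    · have h' : x ^ 4 = 1 := by
        rw [← map_pow, MulEquiv.map_eq_one_iff] at h
        exact congrArg Subtype.val h
      have h0 : x.1.trace = 0 := by
        have h1 := Mitchell.Residual.trace_pow_char_pow 2 x.1 2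
        rw [show (2 ^ 2 : ℕ) = 4 from rfl, ← Units.val_pow_eq_pow_val, h', Units.val_one,
          Matrix.trace_one, Fintype.card_sum, Fintype.card_fin] at h1
        have h2 : (((2 + 2 : ℕ)) : F) = 0 := by
          rw [CharP.cast_eq_zero_iff F 2]; norm_num
        rw [h2] at h1
        exact pow_eq_zero_iff (by norm_num) |>.1 h1.symm
      rw [h0, zero_pow (by positivity)]
    · have h' : (e.symm y : GL (Fin 2 ⊕ Fin 2) F) * x * (e.symm y : GL (Fin 2 ⊕ Fin 2) F)⁻¹ =
          x ^ 2 ^ n := by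
        have h2 := congrArg e.symm hy
        rw [map_mul, map_mul, map_inv, map_pow, MulEquiv.symm_apply_apply] at h2
        exact congrArg Subtype.val h2
      rw [← Mitchell.Residual.trace_pow_char_pow, ← Units.val_pow_eq_pow_val, ← h', Units.val_mul,
        Units.val_mul, Matrix.trace_units_conj]
  -- hence so is the whole field
  have htop : ∀ x : F, x ^ 2 ^ n = x := by
    let F₀ : Subfield F := RingHom.eqLocusField (iterateFrobenius F 2 n) (RingHom.id F)
    have hF₀ : F₀ = ⊤ := by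
      by_contra hne
      exact C.no_subfield F₀ hne (PrimeDim.realisableOver_of_trace
        (PrimeDim.span_eq_top C.abs_irr) C.abs_irr.2 F₀ htr)
    intro x
    exact (hF₀ ▸ Subfield.mem_top x : x ∈ F₀)
  obtain ⟨⟨d, hd0⟩, -, hd⟩ := FiniteField.card F 2
  replace hd : Fintype.card F = 2 ^ d := hd
  have hdn : d ∣ n := by
    obtain ⟨u, hu⟩ := IsCyclic.exists_ofOrder_eq_natCard (α := Fˣ)
    have h1 : u ^ (2 ^ n - 1) = 1 := by
      apply Units.ext
      rw [Units.val_pow_eq_pow_val, Units.val_one]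
      have h2 := htop (u : F)
      rw [← Nat.sub_add_cancel (Nat.one_le_two_pow (n := n)), pow_succ] at h2
      exact mul_right_cancel₀ u.ne_zero (h2.trans (one_mul _).symm)
    have h2 := orderOf_dvd_of_pow_eq_one h1
    rw [hu, Nat.card_units, Nat.card_eq_fintype_card, hd] at h2
    have h3 := Nat.pow_sub_one_gcd_pow_sub_one 2 d n
    rw [Nat.gcd_eq_left h2] at h3
    have h4 : 2 ^ d = 2 ^ Nat.gcd d n := by
      have := Nat.one_le_two_pow (n := d)
      have := Nat.one_le_two_pow (n := Nat.gcd d n)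
      omega
    exact Nat.gcd_eq_left_iff_dvd.1 (Nat.pow_right_injective le_rfl h4).symm
  -- the Sylow order
  have hle : 2 * n ≤ 4 * d := by
    have h1 : (2 ^ n) ^ 2 ∣ Nat.card ↥(Cfsg.spGL 2 F) := by
      have ha : (2 ^ n) ^ 2 ∣ Nat.card ↥P := by
        rw [Nat.card_congr e.toEquiv, ← Suzuki.card_uSub hK]
        exact Subgroup.card_subgroup_dvd_card _
      exact ha.trans (Subgroup.card_dvd_of_le C.le_sp)
    rw [← Nat.card_congr (Cfsg.Agent.Linear.spEquiv 2 F).toEquiv, GLOrder.card_Sp,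
      Nat.card_eq_fintype_card, hd] at h1
    have hcop : Nat.Coprime ((2 ^ n) ^ 2)
        (∏ i ∈ Finset.range 2, ((2 ^ d) ^ (2 * (i + 1)) - 1)) := by
      refine Nat.Coprime.pow_left 2 (Nat.Coprime.pow_left n ?_)
      refine Nat.Coprime.prod_right fun i _ => ?_
      rw [Nat.prime_two.coprime_iff_not_dvd, ← pow_mul]
      have h2 : 2 ∣ 2 ^ (d * (2 * (i + 1))) :=
        dvd_pow_self 2 (Nat.mul_ne_zero hd0.ne' (by omega))
      have := Nat.one_le_two_pow (n := d * (2 * (i + 1)))
      omega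
    have h3 := hcop.dvd_of_dvd_mul_right h1
    rw [← pow_mul, ← pow_mul] at h3
    have := Nat.pow_dvd_pow_iff_le_right (show 1 < 2 by norm_num) |>.1 h3
    omega
  have hdn' : d = n := eq_of_dvd_of_le ⟨m, hn⟩ hdn hle
  have hF : Fintype.card F = 2 ^ (2 * m + 1) := by rw [hd, hdn']
  refine ⟨m, hm, hF, ⟨e.trans ?_⟩⟩
  let φ : K ≃+* F := FiniteField.ringEquivOfCardEq (hK.trans hF.symm)
  have hφ : ∀ x, φ.toRingHom (Suzuki.th m x) = Suzuki.th m (φ.toRingHom x) := fun x => map_pow φ x _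
  refine (MulEquiv.ofBijective (Suzuki.szMap hF hm hK φ.toRingHom hφ) ?_).trans
    (Suzuki.lieEquiv hm hF)
  rw [Nat.bijective_iff_injective_and_card]
  exact ⟨Suzuki.szMap_injective hF hm hK φ.toRingHom hφ,
    by rw [Suzuki.card_sz hm hK, Suzuki.card_sz hm hF]⟩

end Cfsg.Agent.SpFourRes.CTwo
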